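import Cfsg.Agent.H13.Induced
import Cfsg.Agent.H13.Linear

/-!
Projections, multiplicity one and the inner product of two induced functions.
-/

set_option autoImplicit false
set_option linter.unusedSectionVars false

namespace H17.GLC

open Cfsg Module
open scoped ComplexConjugate

variable {G : Type*} [Group G] [Fintype G]

/-- If a character sums to zero on a subgroup, it sums to zero on each of its cosets. -/
theorem sum_coset_eq_zero {χ : G → ℂ} (hχ : IsCharacter G χ) (V : Subgroup G) [Fintype V]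
    (h : ∑ v : V, χ v = 0) (g : G) : ∑ v : V, χ (g * v) = 0 := by
  obtain ⟨d, ρ, rfl⟩ := hχ
  set S : Module.End ℂ (Fin d → ℂ) := ∑ v : V, ρ v
  have hc : (Fintype.card V : ℂ) ≠ 0 := Nat.cast_ne_zero.2 Fintype.card_ne_zero
  have hSS : S * S = (Fintype.card V : ℂ) • S := by
    have h1 : ∀ v : V, ρ v * S = S := by
      intro v
      rw [Finset.mul_sum]
      refine Fintype.sum_equiv (Equiv.mulLeft v) _ _ fun w => ?_
      rw [← map_mul]
      rfl
    rw [Finset.sum_mul, Finset.sum_congr rfl fun v _ => h1 v, Finset.sum_const, Finset.card_univ,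
      ← Nat.cast_smul_eq_nsmul ℂ]
  set E := (Fintype.card V : ℂ)⁻¹ • S with hE
  have hEE : IsIdempotentElem E := by
    show E * E = E
    rw [hE, smul_mul_smul_comm, hSS, smul_smul]
    congr 1
    field_simp
  have htr : LinearMap.trace ℂ _ E = 0 := by
    rw [hE, map_smul, map_sum]
    simp only [Representation.character] at h
    rw [h, smul_zero]
  have hE0 : E = 0 := (LinearMap.IsIdempotentElem.trace_eq_zero_iff hEE).1 htr
  have hS : S = 0 := (smul_eq_zero.1 hE0).resolve_left (inv_ne_zero hc)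
  have := congrArg (fun T => LinearMap.trace ℂ _ (ρ g * T)) hS
  simpa [Representation.character, map_mul, map_sum, Finset.mul_sum, S] using this

/-- A constituent of the restriction sums to zero on a subgroup where the character does. -/
theorem constituent_sum_eq_zero {χ : G → ℂ} (hχ : IsCharacter G χ) (H : Subgroup G) [Fintype H]
    {θ : H → ℂ} (hθ : IsIrrCharacter H θ) (hne : classInner (fun h : H => χ h) θ ≠ 0)
    (V : Subgroup G) [Fintype V] (hVH : V ≤ H) (h : ∑ v : V, χ v = 0) :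
    ∑ v : V, θ ⟨v, hVH v.2⟩ = 0 := by
  classical
  obtain ⟨m, hm⟩ := H12.IsCharacter.exists_mult (H12.IsCharacter.res hχ H)
  have hnat : ∀ φ : IrrCharacter H, ∃ k : ℕ, ∑ v : V, (φ : H → ℂ) ⟨v, hVH v.2⟩ = (Fintype.card V : ℂ) * k := by
    intro φ
    obtain ⟨k, hk⟩ := H12.IsCharacter.classInner_nat
      (H12.IsCharacter.comp (H12.isCharacter_irr φ) (Subgroup.inclusion hVH))
      (H12.isCharacter_irr (H12.oneIrr V))
    refine ⟨k, ?_⟩
    rw [← hk, H12.classInner_def, Nat.card_eq_fintype_card, ← mul_assoc,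
      mul_inv_cancel₀ (Nat.cast_ne_zero.2 Fintype.card_ne_zero), one_mul]
    refine Finset.sum_congr rfl fun v _ => ?_
    simp only [H12.oneIrr_apply, map_one, mul_one]
    rfl
  choose k hk using hnat
  have h0 : (Fintype.card V : ℂ) * ((∑ φ, m φ * k φ : ℕ) : ℂ) = 0 := by
    rw [← h, Nat.cast_sum, Finset.mul_sum]
    have e : ∀ v : V, χ v = ∑ φ : IrrCharacter H, (m φ : ℂ) * (φ : H → ℂ) ⟨v, hVH v.2⟩ := by
      intro v
      have := congrFun hm ⟨v, hVH v.2⟩
      simpa [Finset.sum_apply] using this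
    simp only [e]
    rw [Finset.sum_comm]
    refine Finset.sum_congr rfl fun φ _ => ?_
    rw [← Finset.mul_sum, hk, Nat.cast_mul]
    ring
  have h1 : ∑ φ, m φ * k φ = 0 := by
    exact_mod_cast (mul_eq_zero.1 h0).resolve_left (Nat.cast_ne_zero.2 Fintype.card_ne_zero)
  have h2 := Finset.sum_eq_zero_iff.1 h1 ⟨θ, hθ⟩ (Finset.mem_univ _)
  rcases mul_eq_zero.1 h2 with h3 | h3
  · refine absurd ?_ hne
    rw [hm, H12.classInner_sum_smul_irr (fun φ => (m φ : ℂ)) ⟨θ, hθ⟩, h3, Nat.cast_zero]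
  · have := hk ⟨θ, hθ⟩
    rwa [h3, Nat.cast_zero, mul_zero] at this

/-- Gelfand's criterion: a linear character of a subgroup induces a multiplicity free character. -/
theorem linear_multiplicity_le_one (U : Subgroup G) [Fintype U] (ψ : U →* ℂ) (τ : G → G)
    (hτ : ∀ a b, τ (a * b) = τ b * τ a) (hττ : ∀ a, τ (τ a) = a)
    (hτU : ∀ u : U, ∃ u' : U, (u' : G) = τ u ∧ ψ u' = ψ u)
    (hcos : ∀ g : G, ∃ (a b : U) (m : G), g = a * m * b ∧
      (τ m = m ∨ ∃ v v' : U, m * v = v' * m ∧ ψ v' ≠ ψ v))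
    {χ : G → ℂ} (hχ : IsIrrCharacter G χ) :
    (Fintype.card U : ℂ)⁻¹ * ∑ u : U, χ u * ψ u⁻¹ = 0 ∨
      (Fintype.card U : ℂ)⁻¹ * ∑ u : U, χ u * ψ u⁻¹ = 1 := by
  classical
  obtain ⟨d, ρ, hρ, rfl⟩ := hχ
  have hψ : ∀ u : U, ψ u⁻¹ * ψ u = 1 := fun u => by rw [← map_mul, inv_mul_cancel, map_one]
  set c := (Fintype.card U : ℂ)⁻¹ with hcdef
  set S : Module.End ℂ (Fin d → ℂ) := ∑ u : U, ψ u⁻¹ • ρ u with hS
  set E := c • S with hE
  have hleft : ∀ u : U, ρ u * S = ψ u • S := by
    intro u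
    rw [hS, Finset.mul_sum, Finset.smul_sum]
    refine Fintype.sum_equiv (Equiv.mulLeft u) _ _ fun w => ?_
    rw [mul_smul_comm, ← map_mul, smul_smul]
    simp only [Equiv.coe_mulLeft, mul_inv_rev, map_mul, Subgroup.coe_mul]
    rw [mul_left_comm, mul_comm (ψ u), hψ, mul_one]
  have hright : ∀ u : U, S * ρ u = ψ u • S := by
    intro u
    rw [hS, Finset.sum_mul, Finset.smul_sum]
    refine Fintype.sum_equiv (Equiv.mulRight u) _ _ fun w => ?_
    rw [smul_mul_assoc, ← map_mul, smul_smul]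
    simp only [Equiv.coe_mulRight, mul_inv_rev, map_mul, Subgroup.coe_mul]
    rw [← mul_assoc, mul_comm (ψ u), hψ, one_mul]
  have hEl : ∀ u : U, ρ u * E = ψ u • E := fun u => by
    rw [hE, mul_smul_comm, hleft, smul_comm]
  have hEr : ∀ u : U, E * ρ u = ψ u • E := fun u => by
    rw [hE, smul_mul_assoc, hright, smul_comm]
  have hEE : E * E = E := by
    have h1 : S * S = (Fintype.card U : ℂ) • S := by
      conv_lhs => rw [hS]
      rw [Finset.sum_mul]
      rw [Finset.sum_congr rfl (g := fun _ : U => S) fun u _ => by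
        rw [smul_mul_assoc, ← hS, hleft, smul_smul, hψ, one_smul]]
      rw [Finset.sum_const, Finset.card_univ, ← Nat.cast_smul_eq_nsmul ℂ]
    rw [hE, smul_mul_smul_comm, h1, smul_smul, hcdef]
    congr 1
    field_simp [Nat.cast_ne_zero.2 (Fintype.card_ne_zero (α := U))]
  -- equivariant functions are invariant under `τ`
  have hinv : ∀ Φ : G → ℂ, (∀ (a b : U) (x : G), Φ (a * x * b) = ψ a⁻¹ * ψ b⁻¹ * Φ x) →
      ∀ x, Φ (τ x) = Φ x := by
    intro Φ hΦ x
    obtain ⟨a, b, m, rfl, hm⟩ := hcos x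
    obtain ⟨a', ha', hψa⟩ := hτU a
    obtain ⟨b', hb', hψb⟩ := hτU b
    have hinv' : ∀ u v : U, ψ u = ψ v → ψ u⁻¹ = ψ v⁻¹ := fun u v h => by
      calc ψ u⁻¹ = ψ u⁻¹ * (ψ v * ψ v⁻¹) := by rw [mul_comm (ψ v), hψ, mul_one]
        _ = ψ v⁻¹ := by rw [← mul_assoc, ← h, hψ, one_mul]
    have e1 : Φ (τ (a * m * b)) = ψ a⁻¹ * ψ b⁻¹ * Φ (τ m) := by
      rw [hτ, hτ, ← ha', ← hb', ← mul_assoc, hΦ, hinv' _ _ hψa, hinv' _ _ hψb, mul_comm (ψ b⁻¹)]
    rw [e1, hΦ]
    rcases hm with hm | ⟨v, v', hvv, hne⟩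
    · rw [hm]
    · have hz : ∀ (z : G) (v v' : U), z * v = v' * z → ψ v' ≠ ψ v → Φ z = 0 := by
        intro z v v' h hne
        have h1 := hΦ 1 v z
        have h2 := hΦ v' 1 z
        simp only [OneMemClass.coe_one, one_mul, mul_one, inv_one, map_one] at h1 h2
        rw [h, h2] at h1
        by_contra hz
        exact hne ((hinv' v'⁻¹ v⁻¹ (mul_right_cancel₀ hz h1)) |> fun h => by simpa using h)
      obtain ⟨w, hw, hψw⟩ := hτU v
      obtain ⟨w', hw', hψw'⟩ := hτU v'
      have h3 : τ m * w' = w * τ m := by rw [hw, hw', ← hτ, ← hτ, hvv]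
      rw [hz m v v' hvv hne, hz (τ m) w' w h3 (by rw [hψw, hψw']; exact hne.symm)]
  -- the operators `E ρ(g) E` commute
  let K : G → Module.End ℂ (Fin d → ℂ) := fun g => E * ρ g * E
  have hKfix : ∀ g : G, ∃ (s : ℂ) (m : G), τ m = m ∧ K g = s • K m ∨ K g = 0 := by
    intro g
    obtain ⟨a, b, m, rfl, hm⟩ := hcos g
    have e : K (a * m * b) = (ψ a * ψ b) • K m := by
      simp only [K, map_mul]
      rw [← mul_assoc, ← mul_assoc, hEr, mul_assoc _ (ρ b), hEl, mul_smul_comm, smul_mul_assoc,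
        smul_mul_assoc, smul_smul, mul_comm (ψ a)]
    rcases hm with hm | ⟨v, v', hvv, hne⟩
    · exact ⟨_, m, Or.inl ⟨hm, e⟩⟩
    · refine ⟨0, m, Or.inr ?_⟩
      have h1 : E * ρ (m * v) * E = ψ v • K m := by
        rw [map_mul, mul_assoc E, mul_assoc (ρ m), hEl, mul_smul_comm, mul_smul_comm, ← mul_assoc]
      have h2 : E * ρ (v' * m) * E = ψ v' • K m := by
        rw [map_mul, ← mul_assoc E, hEr, smul_mul_assoc, smul_mul_assoc]
      rw [hvv, h2] at h1
      have h3 : (ψ v' - ψ v) • K m = 0 := (sub_smul (ψ v') (ψ v) (K m)).trans (by rw [h1, sub_self])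
      rw [e, (smul_eq_zero.1 h3).resolve_left (sub_ne_zero.2 hne), smul_zero]
  let Φ : G → G → G → ℂ := fun g h x => ∑ t : U × U × U,
    if (t.1 : G) * g * t.2.1 * h * t.2.2 = x then ψ t.1⁻¹ * ψ t.2.1⁻¹ * ψ t.2.2⁻¹ else 0
  have hexpand : ∀ g h, K g * K h = c ^ 3 • ∑ x, Φ g h x • ρ x := by
    intro g h
    have h1 : K g * K h = E * ρ g * E * ρ h * E := by
      simp only [K]
      rw [← mul_assoc, ← mul_assoc, mul_assoc (E * ρ g) E E, hEE]
    rw [h1, hE]
    simp only [smul_mul_assoc, mul_smul_comm, smul_smul]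
    rw [show c * (c * c) = c ^ 3 by ring]
    congr 1
    rw [hS]
    simp only [Finset.sum_mul, Finset.mul_sum, smul_mul_assoc, mul_smul_comm, smul_smul, ← map_mul]
    simp only [Φ, Finset.sum_smul, ite_smul, zero_smul]
    conv_rhs => rw [Finset.sum_comm]
    simp only [Finset.sum_ite_eq, Finset.mem_univ, if_true, Fintype.sum_prod_type, Finset.smul_sum,
      smul_smul]
    refine Finset.sum_comm_cycle.trans ?_
    refine Finset.sum_congr rfl fun u _ => Finset.sum_comm.trans ?_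
    refine Finset.sum_congr rfl fun v _ => Finset.sum_congr rfl fun w _ => ?_
    congr 1
    ring
  have hcomm : ∀ g h, K g * K h = K h * K g := by
    intro g h
    obtain ⟨s, m, hs⟩ := hKfix g
    obtain ⟨s', m', hs'⟩ := hKfix h
    rcases hs with ⟨hm, hs⟩ | hs
    swap
    · rw [hs, zero_mul, mul_zero]
    rcases hs' with ⟨hm', hs'⟩ | hs'
    swap
    · rw [hs', zero_mul, mul_zero]
    rw [hs, hs', smul_mul_smul_comm, smul_mul_smul_comm, mul_comm s]
    congr 1
    rw [hexpand, hexpand]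
    congr 1
    refine Finset.sum_congr rfl fun x _ => ?_
    congr 1
    have hequiv : ∀ (a b : U) (x : G), Φ m m' (a * x * b) = ψ a⁻¹ * ψ b⁻¹ * Φ m m' x := by
      intro a b x
      simp only [Φ, Finset.mul_sum]
      refine (Fintype.sum_equiv ((Equiv.mulLeft a).prodCongr ((Equiv.refl U).prodCongr (Equiv.mulRight b)))
        _ _ fun t => ?_).symm
      simp only [Equiv.prodCongr_apply, Prod.map_fst, Prod.map_snd, Equiv.coe_mulLeft, Equiv.coe_mulRight,
        Equiv.refl_apply, Subgroup.coe_mul, mul_inv_rev, map_mul]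
      rw [show (a : G) * (t.1 : G) * m * t.2.1 * m' * ((t.2.2 : G) * b) =
        a * ((t.1 : G) * m * t.2.1 * m' * t.2.2) * b by simp only [mul_assoc]]
      simp only [mul_left_inj, mul_right_inj, mul_ite, mul_zero]
      split_ifs <;> ring
    rw [← hinv (Φ m m') hequiv x]
    -- reversing the triple
    let e : U → U := fun u => (hτU u).choose
    have he : ∀ u : U, (e u : G) = τ u ∧ ψ (e u) = ψ u := fun u => (hτU u).choose_spec
    have hee : Function.Involutive e := fun u => Subtype.ext (by rw [(he _).1, (he u).1, hττ])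
    refine Fintype.sum_equiv
      { toFun := fun t => (e t.2.2, e t.2.1, e t.1)
        invFun := fun t => (e t.2.2, e t.2.1, e t.1)
        left_inv := fun t => by simp [hee _]
        right_inv := fun t => by simp [hee _] } _ _ fun t => ?_
    have hψe : ∀ u : U, ψ (e u)⁻¹ = ψ u⁻¹ := fun u => by
      calc ψ (e u)⁻¹ = ψ (e u)⁻¹ * (ψ u * ψ u⁻¹) := by rw [mul_comm (ψ u), hψ, mul_one]
        _ = ψ u⁻¹ := by rw [← mul_assoc, ← (he u).2, hψ, one_mul]
    simp only [Equiv.coe_fn_mk, hψe, (he _).1]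
    have key : τ ((t.1 : G) * m * t.2.1 * m' * t.2.2) = τ t.2.2 * m' * τ t.2.1 * m * τ t.1 := by
      rw [hτ, hτ, hτ, hτ, hm, hm']
      simp only [mul_assoc]
    by_cases hx : (t.1 : G) * m * t.2.1 * m' * t.2.2 = τ x
    · rw [if_pos hx, if_pos (by rw [← key, hx, hττ])]
      ring
    · rw [if_neg hx, if_neg fun h => hx (by rw [← hττ ((t.1 : G) * m * t.2.1 * m' * t.2.2), key, h])]
  -- a common eigenvector
  have htr : c * ∑ u : U, ρ.character u * ψ u⁻¹ = LinearMap.trace ℂ _ E := by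
    rw [hE, hS, map_smul, map_sum, smul_eq_mul]
    congr 1
    refine Finset.sum_congr rfl fun u _ => ?_
    rw [map_smul, smul_eq_mul, mul_comm]
    rfl
  have hproj : LinearMap.IsProj (LinearMap.range E) E := ⟨fun x => LinearMap.mem_range_self E x, by
    rintro _ ⟨x, rfl⟩
    exact LinearMap.congr_fun hEE x⟩
  rw [htr, hproj.trace]
  suffices hle : finrank ℂ (LinearMap.range E) ≤ 1 by
    rcases Nat.le_one_iff_eq_zero_or_eq_one.1 hle with h | h
    · left; rw [h, Nat.cast_zero]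
    · right; rw [h, Nat.cast_one]
  set W := LinearMap.range E with hW
  rcases eq_or_ne W ⊥ with hW0 | hW0
  · rw [hW0, finrank_bot]; exact Nat.zero_le _
  obtain ⟨X, hXmem, hXmin⟩ := (wellFounded_lt (α := Submodule ℂ (Fin d → ℂ))).has_min
    {X | X ≠ ⊥ ∧ X ≤ W ∧ ∀ g, ∀ x ∈ X, K g x ∈ X} ⟨W, hW0, le_rfl, fun g x _ => by
      simp only [K, Module.End.mul_apply, hW]; exact LinearMap.mem_range_self _ _⟩
  obtain ⟨hX0, hXW, hXK⟩ := hXmem
  haveI : Nontrivial X := Submodule.nontrivial_iff_ne_bot.2 hX0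
  have hscal : ∀ g, ∃ s : ℂ, ∀ x ∈ X, K g x = s • x := by
    intro g
    obtain ⟨s, hs⟩ := Module.End.exists_eigenvalue ((K g).restrict (hXK g))
    obtain ⟨v, hv, hv0⟩ := hs.exists_hasEigenvector
    rw [Module.End.mem_genEigenspace_one] at hv
    let Y : Submodule ℂ (Fin d → ℂ) := X ⊓ LinearMap.ker (K g - s • (1 : Module.End ℂ (Fin d → ℂ)))
    have hY0 : Y ≠ ⊥ := by
      refine (Submodule.ne_bot_iff Y).2 ⟨v, ⟨v.2, ?_⟩, fun h => hv0 (Subtype.ext h)⟩
      have := congrArg Subtype.val hv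
      simp only [LinearMap.restrict_apply, SetLike.val_smul] at this
      simp [this]
    have hYK : ∀ g', ∀ x ∈ Y, K g' x ∈ Y := by
      intro g' x hx
      refine ⟨hXK g' x hx.1, ?_⟩
      have h1 : K g x = s • x := by
        have := hx.2
        rwa [SetLike.mem_coe, LinearMap.mem_ker, LinearMap.sub_apply, LinearMap.smul_apply,
          Module.End.one_apply, sub_eq_zero] at this
      rw [SetLike.mem_coe, LinearMap.mem_ker, LinearMap.sub_apply, LinearMap.smul_apply,
        Module.End.one_apply, ← Module.End.mul_apply, hcomm, Module.End.mul_apply, h1, map_smul, sub_self]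
    have hYX : Y = X := by
      by_contra hne
      exact hXmin Y ⟨hY0, inf_le_left.trans hXW, hYK⟩ (lt_of_le_of_ne inf_le_left hne)
    refine ⟨s, fun x hx => ?_⟩
    rw [← hYX] at hx
    have := hx.2
    rwa [SetLike.mem_coe, LinearMap.mem_ker, LinearMap.sub_apply, LinearMap.smul_apply,
      Module.End.one_apply, sub_eq_zero] at this
  obtain ⟨w, hw, hw0⟩ := (Submodule.ne_bot_iff X).1 hX0
  have hEw : E w = w := by
    obtain ⟨y, rfl⟩ := hXW hw
    exact LinearMap.congr_fun hEE y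
  have hline : W ≤ Submodule.span ℂ {w} := by
    let M : Submodule ℂ (Fin d → ℂ) := Submodule.span ℂ (Set.range fun g => ρ g w)
    have hM : ∀ g, ∀ x ∈ M, ρ g x ∈ M := by
      intro g x hx
      induction hx using Submodule.span_induction with
      | mem x hx =>
        obtain ⟨h, rfl⟩ := hx
        exact Submodule.subset_span ⟨g * h, by simp [map_mul]⟩
      | zero => simp
      | add x y _ _ hx hy => rw [map_add]; exact add_mem hx hy
      | smul s x _ hx => rw [map_smul]; exact Submodule.smul_mem _ s hx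
    let N : Subrepresentation ρ := ⟨M, fun g x hx => hM g x hx⟩
    haveI := hρ
    have hN : N = ⊤ := by
      refine (IsSimpleOrder.eq_bot_or_eq_top N).resolve_left fun h => hw0 ?_
      have hwM : w ∈ M := Submodule.subset_span ⟨1, by simp⟩
      have : w ∈ (⊥ : Subrepresentation ρ).toSubmodule := h ▸ hwM
      change w ∈ (⊥ : Submodule ℂ (Fin d → ℂ)) at this
      simpa using this
    rintro _ ⟨y, rfl⟩
    have hy : y ∈ M := by
      show y ∈ N.toSubmodule
      rw [hN]; trivial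
    induction hy using Submodule.span_induction with
    | mem x hx =>
      obtain ⟨g, rfl⟩ := hx
      obtain ⟨s, hs⟩ := hscal g
      have := hs w hw
      simp only [K, Module.End.mul_apply, hEw] at this
      rw [this]
      exact Submodule.smul_mem _ s (Submodule.mem_span_singleton_self w)
    | zero => simp
    | add x y _ _ hx hy => rw [map_add]; exact add_mem hx hy
    | smul s x _ hx => rw [map_smul]; exact Submodule.smul_mem _ s hx
  exact (Submodule.finrank_mono hline).trans (finrank_span_singleton hw0).le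

/-- The twisted sum attached to a double coset. -/
noncomputable def mackeyTerm (H K : Subgroup G) (α : H → ℂ) (β : K → ℂ) (x : G) : ℂ :=
  ∑ g : G, extendByZero H α g * conj (extendByZero K β (x⁻¹ * g * x))

theorem classInner_indFun_eq_sum (H K : Subgroup G) [Fintype H] (α : H → ℂ) (β : K → ℂ) :
    classInner (indFun H α) (indFun K β) =
      ((Nat.card H : ℂ) * (Nat.card K : ℂ))⁻¹ * ∑ x : G, mackeyTerm H K α β x := by
  classical
  rw [H13.classInner_indFun_left H α (H13.indFun_isClassFunction K β), H12.classInner_def, mul_inv,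
    mul_assoc]
  congr 1
  simp only [mackeyTerm, indFun, map_mul, map_sum, map_inv₀, map_natCast, Finset.mul_sum]
  rw [Finset.sum_comm]
  refine Finset.sum_congr rfl fun x _ => ?_
  rw [← Finset.sum_subtype (Finset.univ.filter (fun g => g ∈ H)) (by simp)
    (fun g => extendByZero H α g * ((Nat.card K : ℂ)⁻¹ * conj (extendByZero K β (x⁻¹ * g * x))))
    |>.trans (Finset.sum_congr rfl fun h _ => by rw [H13.extendByZero_coe]), Finset.sum_filter]
  refine Finset.sum_congr rfl fun g _ => ?_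
  split_ifs with h
  · ring
  · rw [H13.extendByZero_notMem H α h]; ring

theorem extendByZero_conj_mem {H : Subgroup G} {α : H → ℂ} (hα : IsClassFunction H α) (a : H) (g : G) :
    extendByZero H α (a * g * (a : G)⁻¹) = extendByZero H α g := by
  by_cases hg : g ∈ H
  · rw [H13.extendByZero_mem H α hg, H13.extendByZero_mem H α (mul_mem (mul_mem a.2 hg) (inv_mem a.2))]
    exact hα ⟨g, hg⟩ a
  · rw [H13.extendByZero_notMem H α hg, H13.extendByZero_notMem]
    intro h
    exact hg (by simpa [mul_assoc] using mul_mem (mul_mem (inv_mem a.2) h) a.2)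

theorem mackeyTerm_mul (H K : Subgroup G) {α : H → ℂ} {β : K → ℂ} (hα : IsClassFunction H α)
    (hβ : IsClassFunction K β) (a : H) (b : K) (w : G) :
    mackeyTerm H K α β (a * w * b) = mackeyTerm H K α β w := by
  refine Fintype.sum_equiv (MulAut.conj (a : G)⁻¹).toEquiv _ _ fun g => ?_
  simp only [MulEquiv.toEquiv_eq_coe, EquivLike.coe_coe, MulAut.conj_apply, inv_inv]
  congr 1
  · rw [← extendByZero_conj_mem hα a ((a : G)⁻¹ * g * a)]
    congr 1
    group
  · congr 1
    rw [← extendByZero_conj_mem hβ b (((a : G) * w * b)⁻¹ * g * (a * w * b))]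
    congr 1
    group

/-- The inner product of two induced class functions as a sum over double coset representatives. -/
theorem classInner_indFun_eq_reps (H K : Subgroup G) [Fintype H] [Fintype K] {α : H → ℂ} {β : K → ℂ}
    (hα : IsClassFunction H α) (hβ : IsClassFunction K β) (W : Finset G)
    (hcov : ∀ x, mackeyTerm H K α β x ≠ 0 → ∃ w ∈ W, ∃ a ∈ H, ∃ b ∈ K, x = a * w * b)
    (hdis : ∀ w ∈ W, ∀ w' ∈ W, ∀ a ∈ H, ∀ b ∈ K, a * w * b = w' → w = w') :
    classInner (indFun H α) (indFun K β) =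
      ∑ w ∈ W, mackeyTerm H K α β w / (Nat.card {g : G // g ∈ H ∧ w⁻¹ * g * w ∈ K} : ℂ) := by
  classical
  set M := mackeyTerm H K α β with hMdef
  have hM : ∀ (a : H) (b : K) (w : G), M (a * w * b) = M w := mackeyTerm_mul H K hα hβ
  let D : G → Finset G := fun w => (Finset.univ : Finset (H × K)).image fun ab => ab.1 * w * ab.2
  have hsum : ∀ w, (Nat.card {g : G // g ∈ H ∧ w⁻¹ * g * w ∈ K} : ℂ) * ∑ x ∈ D w, M x =
      (Nat.card H : ℂ) * Nat.card K * M w := by
    intro w
    have hfib : ∀ x ∈ D w, ((Finset.univ : Finset (H × K)).filter fun ab => (ab.1 : G) * w * ab.2 = x).card =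
        Nat.card {g : G // g ∈ H ∧ w⁻¹ * g * w ∈ K} := by
      intro x hx
      obtain ⟨⟨a₀, b₀⟩, -, rfl⟩ := Finset.mem_image.1 hx
      rw [← Fintype.card_subtype, ← Nat.card_eq_fintype_card]
      refine Nat.card_congr
        { toFun := fun ab => ⟨(a₀ : G)⁻¹ * ab.1.1, mul_mem (inv_mem a₀.2) ab.1.1.2, ?_⟩
          invFun := fun g => ⟨(a₀ * ⟨g.1, g.2.1⟩, (⟨w⁻¹ * g.1 * w, g.2.2⟩ : K)⁻¹ * b₀), ?_⟩
          left_inv := fun ab => ?_
          right_inv := fun g => ?_ }
      · have h := ab.2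
        have e : w⁻¹ * ((a₀ : G)⁻¹ * ab.1.1) * w = b₀ * (ab.1.2 : G)⁻¹ := by
          rw [eq_mul_inv_iff_mul_eq]
          calc w⁻¹ * ((a₀ : G)⁻¹ * ab.1.1) * w * ab.1.2
              = w⁻¹ * (a₀ : G)⁻¹ * ((ab.1.1 : G) * w * ab.1.2) := by group
            _ = b₀ := by rw [h]; group
        rw [e]
        exact mul_mem b₀.2 (inv_mem ab.1.2.2)
      · show (a₀ : G) * g.1 * w * ((w⁻¹ * g.1 * w)⁻¹ * b₀) = a₀ * w * b₀
        group
      · refine Subtype.ext (Prod.ext (Subtype.ext ?_) (Subtype.ext ?_))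
        · show (a₀ : G) * ((a₀ : G)⁻¹ * ab.1.1) = ab.1.1
          group
        · show (w⁻¹ * ((a₀ : G)⁻¹ * ab.1.1) * w)⁻¹ * b₀ = ab.1.2
          have h := ab.2
          calc (w⁻¹ * ((a₀ : G)⁻¹ * ab.1.1) * w)⁻¹ * b₀
              = w⁻¹ * (ab.1.1 : G)⁻¹ * ((a₀ : G) * w * b₀) := by group
            _ = w⁻¹ * (ab.1.1 : G)⁻¹ * ((ab.1.1 : G) * w * ab.1.2) := congrArg _ h.symm
            _ = ab.1.2 := by group
      · refine Subtype.ext ?_
        show (a₀ : G)⁻¹ * ((a₀ : G) * g.1) = g.1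
        group
    have h1 : ∑ ab : H × K, M (ab.1 * w * ab.2) = (Nat.card H : ℂ) * Nat.card K * M w := by
      simp only [hM, Finset.sum_const, Finset.card_univ, Fintype.card_prod, nsmul_eq_mul,
        Nat.card_eq_fintype_card, Nat.cast_mul]
    rw [← h1, ← Finset.sum_fiberwise_of_maps_to (t := D w) (g := fun ab : H × K => (ab.1 : G) * w * ab.2)
      (fun ab _ => Finset.mem_image_of_mem _ (Finset.mem_univ ab)), Finset.mul_sum]
    refine Finset.sum_congr rfl fun x hx => ?_
    rw [Finset.sum_congr rfl (g := fun _ => M x) (fun ab hab => by rw [(Finset.mem_filter.1 hab).2]),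
      Finset.sum_const, hfib x hx, nsmul_eq_mul]
  have hpw : ((W : Set G)).PairwiseDisjoint D := by
    intro w hw w' hw' hne
    rw [Function.onFun, Finset.disjoint_left]
    intro x hx hx'
    obtain ⟨⟨a, b⟩, -, rfl⟩ := Finset.mem_image.1 hx
    obtain ⟨⟨a', b'⟩, -, he⟩ := Finset.mem_image.1 hx'
    refine hne (hdis w hw w' hw' ((a'⁻¹ * a : H) : G) (a'⁻¹ * a : H).2 ((b * b'⁻¹ : K) : G) (b * b'⁻¹ : K).2 ?_)
    simp only [Subgroup.coe_mul, Subgroup.coe_inv]
    calc (a' : G)⁻¹ * a * w * (b * (b' : G)⁻¹) = (a' : G)⁻¹ * ((a : G) * w * b) * (b' : G)⁻¹ := by group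
      _ = w' := by rw [← he]; group
  rw [classInner_indFun_eq_sum, Finset.mul_sum]
  rw [← Finset.sum_subset (Finset.subset_univ (W.biUnion D)), ← Finset.mul_sum, Finset.sum_biUnion hpw,
    Finset.mul_sum]
  · refine Finset.sum_congr rfl fun w _ => ?_
    have hN : (Nat.card {g : G // g ∈ H ∧ w⁻¹ * g * w ∈ K} : ℂ) ≠ 0 := by
      haveI : Nonempty {g : G // g ∈ H ∧ w⁻¹ * g * w ∈ K} :=
        ⟨⟨1, one_mem _, by simp⟩⟩
      exact Nat.cast_ne_zero.2 Nat.card_pos.ne'
    have hH : (Nat.card H : ℂ) * Nat.card K ≠ 0 :=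
      mul_ne_zero (Nat.cast_ne_zero.2 Nat.card_pos.ne') (Nat.cast_ne_zero.2 Nat.card_pos.ne')
    rw [eq_div_iff hN, mul_assoc, mul_comm (∑ x ∈ D w, M x), hsum, ← mul_assoc, inv_mul_cancel₀ hH, one_mul]
  · intro x _ hx
    suffices M x = 0 by
      show _ * M x = 0
      rw [this, mul_zero]
    by_contra hne
    obtain ⟨w, hw, a, ha, b, hb, rfl⟩ := hcov x hne
    exact hx (Finset.mem_biUnion.2 ⟨w, hw, Finset.mem_image.2 ⟨(⟨a, ha⟩, ⟨b, hb⟩), Finset.mem_univ _, rfl⟩⟩)

end H17.GLC
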