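import Cfsg.Agent.H17.GLCusp.Abstract

/-!
Standard parabolic subgroups of the general linear group, products of groups, and the pairing of
two inflated products of cuspidal characters.
-/

set_option autoImplicit false
set_option linter.unusedSectionVars false
set_option linter.style.haveILetI false

namespace H17.GLC

open Cfsg Finset
open scoped ComplexConjugate

section PiChar

variable {k : ℕ} {H : Fin k → Type*} [∀ i, Group (H i)] [∀ i, Fintype (H i)]

theorem classInner_pi (φ ψ : ∀ i, H i → ℂ) :
    classInner (fun x : ∀ i, H i => ∏ i, φ i (x i)) (fun x => ∏ i, ψ i (x i)) =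
      ∏ i, classInner (φ i) (ψ i) := by
  classical
  simp only [H12.classInner_def, Finset.prod_mul_distrib, map_prod]
  congr 1
  · rw [Nat.card_pi, Nat.cast_prod, Finset.prod_inv_distrib]
  · rw [Fintype.prod_sum]
    exact Finset.sum_congr rfl fun x _ => Finset.prod_mul_distrib.symm

theorem isCharacter_pi {φ : ∀ i, H i → ℂ} (h : ∀ i, IsCharacter (H i) (φ i)) :
    IsCharacter (∀ i, H i) (fun x => ∏ i, φ i (x i)) := by
  classical
  suffices ∀ s : Finset (Fin k), IsCharacter (∀ i, H i) (fun x => ∏ i ∈ s, φ i (x i)) from this univ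
  intro s
  induction s using Finset.induction with
  | empty =>
    simp only [Finset.prod_empty]
    exact H12.isCharacter_irr (H12.oneIrr _)
  | insert a s ha ih =>
    simp only [Finset.prod_insert ha]
    exact H12.IsCharacter.mul (H12.IsCharacter.comp (h a) (Pi.evalMonoidHom H a)) ih

theorem isIrr_pi {φ : ∀ i, H i → ℂ} (h : ∀ i, IsIrrCharacter (H i) (φ i)) :
    IsIrrCharacter (∀ i, H i) (fun x => ∏ i, φ i (x i)) := by
  classical
  refine H12.isIrrCharacter_of_classInner_self_eq_one
    (isCharacter_pi fun i => H12.isCharacter_of_isIrrCharacter (h i)) ?_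
  rw [classInner_pi]
  exact Finset.prod_eq_one fun i _ => H12.classInner_irr_self (⟨φ i, h i⟩ : IrrCharacter (H i))

theorem exists_eq_pi {θ : (∀ i, H i) → ℂ} (hθ : IsIrrCharacter (∀ i, H i) θ) :
    ∃ φ : ∀ i, IrrCharacter (H i), θ = fun x => ∏ i, (φ i : H i → ℂ) (x i) := by
  classical
  let Φ : (∀ i, IrrCharacter (H i)) → IrrCharacter (∀ i, H i) := fun φ =>
    ⟨fun x => ∏ i, (φ i : H i → ℂ) (x i), isIrr_pi fun i => (φ i).2⟩
  have hinj : Function.Injective Φ := by
    intro φ ψ h
    funext i
    by_contra hne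
    have h1 : classInner (Φ φ : (∀ i, H i) → ℂ) (Φ ψ : (∀ i, H i) → ℂ) = 0 := by
      simp only [Φ]
      rw [classInner_pi]
      exact Finset.prod_eq_zero (Finset.mem_univ i) (H12.classInner_irr_ne hne)
    rw [h, H12.classInner_irr_self] at h1
    exact one_ne_zero h1
  have hsum : ∑ χ ∈ univ.image Φ, (χ : (∀ i, H i) → ℂ) 1 ^ 2 = ∑ χ : IrrCharacter (∀ i, H i), (χ : (∀ i, H i) → ℂ) 1 ^ 2 := by
    rw [H12.sum_degree_sq, Finset.sum_image hinj.injOn, Nat.card_pi, Nat.cast_prod]
    simp only [← H12.sum_degree_sq (G := H _), Φ, ← Finset.prod_pow, Pi.one_apply]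
    exact (Fintype.prod_sum fun i (c : IrrCharacter (H i)) => (c : H i → ℂ) 1 ^ 2).symm
  by_contra hne
  push Not at hne
  have hmem : (⟨θ, hθ⟩ : IrrCharacter (∀ i, H i)) ∉ univ.image Φ := by
    rw [Finset.mem_image]
    rintro ⟨φ, -, h⟩
    exact hne φ (congrArg Subtype.val h).symm
  have hnat : ∑ χ ∈ univ.image Φ, H12.degree (χ : (∀ i, H i) → ℂ) ^ 2 =
      ∑ χ : IrrCharacter (∀ i, H i), H12.degree (χ : (∀ i, H i) → ℂ) ^ 2 := by
    simp only [H12.irr_apply_one] at hsum
    exact_mod_cast hsum
  have hpos : 0 < H12.degree θ ^ 2 := by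
    refine pow_pos (Nat.pos_of_ne_zero fun h => H12.irr_apply_one_ne_zero (⟨θ, hθ⟩ : IrrCharacter (∀ i, H i)) ?_) 2
    rw [H12.irr_apply_one, h, Nat.cast_zero]
  exact absurd hnat (Finset.sum_lt_sum_of_subset (Finset.subset_univ _) (Finset.mem_univ _) hmem hpos
    fun _ _ _ => Nat.zero_le _).ne

end PiChar

/-- Summing a function pulled back along a surjective homomorphism. -/
theorem sum_comp_hom {H L : Type*} [Group H] [Fintype H] [Group L] [Fintype L] (p : H →* L)
    (hp : Function.Surjective p) (f : L → ℂ) :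
    (Fintype.card L : ℂ) * ∑ h, f (p h) = (Fintype.card H : ℂ) * ∑ x, f x := by
  have e : ∀ x : L, ∑ h, f (p h * x) = ∑ h, f (p h) := by
    intro x
    obtain ⟨a, rfl⟩ := hp x
    exact Fintype.sum_equiv (Equiv.mulRight a) _ _ fun h => by simp
  calc (Fintype.card L : ℂ) * ∑ h, f (p h) = ∑ x : L, ∑ h, f (p h * x) := by
        simp [e, Finset.sum_const, nsmul_eq_mul]
    _ = ∑ h : H, ∑ x : L, f x := by
        rw [Finset.sum_comm]
        exact Finset.sum_congr rfl fun h _ => Fintype.sum_equiv (Equiv.mulLeft (p h)) _ _ fun x => rfl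
    _ = _ := by simp [Finset.sum_const, nsmul_eq_mul]

theorem sum_ite_subgroup {G : Type*} [Group G] [Fintype G] (V : Subgroup G) [Fintype V] [DecidablePred (· ∈ V)]
    (f : G → ℂ) : (∑ g : G, if g ∈ V then f g else 0) = ∑ v : V, f v := by
  rw [← Finset.sum_filter]
  exact (Finset.sum_subtype (Finset.univ.filter (· ∈ V)) (by simp) f)

section Parabolic

variable {F : Type*} [Field F] [Fintype F] [DecidableEq F]
variable {B : Type*} [Fintype B] [DecidableEq B] {κ : Type*} [LinearOrder κ]

/-- The parabolic subgroup of a labelling. -/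
def par (c : B → κ) : Subgroup (GL B F) where
  carrier := {g | (g : Matrix B B F).BlockTriangular c}
  one_mem' := Matrix.blockTriangular_one
  mul_mem' := fun ha hb => ha.mul hb
  inv_mem' := by
    intro g hg
    have : Invertible (g : Matrix B B F) := g.invertible
    show ((g⁻¹ : GL B F) : Matrix B B F).BlockTriangular c
    rw [Matrix.coe_units_inv]
    exact Matrix.blockTriangular_inv_of_blockTriangular hg

theorem mem_par {c : B → κ} {g : GL B F} : g ∈ par c ↔ ∀ i j, c j < c i → (g : Matrix B B F) i j = 0 :=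
  ⟨fun h _ _ hij => h hij, fun h _ _ hij => h _ _ hij⟩

/-- A diagonal block of an element of the parabolic. -/
def blockM (c : B → κ) (k : κ) : par (F := F) c →* Matrix {i // c i = k} {i // c i = k} F where
  toFun g := Matrix.of fun i j => ((g : GL B F) : Matrix B B F) i.1 j.1
  map_one' := by
    ext i j
    simp [Matrix.one_apply, Subtype.ext_iff]
  map_mul' g h := by
    ext i j
    simp only [Matrix.of_apply, Matrix.mul_apply, Subgroup.coe_mul, Units.val_mul]
    rw [← Finset.sum_subtype (Finset.univ.filter fun l => c l = k) (by simp)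
      (fun l => ((g : GL B F) : Matrix B B F) i.1 l * ((h : GL B F) : Matrix B B F) l j.1)]
    refine (Finset.sum_subset (Finset.subset_univ _) fun l _ hl => ?_).symm
    simp only [Finset.mem_filter, Finset.mem_univ, true_and] at hl
    rcases lt_or_gt_of_ne hl with h' | h'
    · rw [mem_par.1 g.2 i.1 l (i.2.symm ▸ h'), zero_mul]
    · rw [mem_par.1 h.2 l j.1 (j.2.symm ▸ h'), mul_zero]

/-- The Levi quotient. -/
def proj (c : B → κ) : par (F := F) c →* ∀ k, GL {i // c i = k} F :=
  MonoidHom.pi fun k => (blockM c k).toHomUnits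

theorem proj_apply (c : B → κ) (g : par (F := F) c) (k : κ) (i j : {i // c i = k}) :
    (proj c g k : Matrix {i // c i = k} {i // c i = k} F) i j = ((g : GL B F) : Matrix B B F) i.1 j.1 := rfl

/-- The unipotent radical. -/
def rad (c : B → κ) : Subgroup (GL B F) := (proj (F := F) c).ker.map (par c).subtype

theorem rad_le_par (c : B → κ) : rad (F := F) c ≤ par c := Subgroup.map_subtype_le _

theorem mem_rad {c : B → κ} {g : GL B F} :
    g ∈ rad c ↔ (∀ i j, c j < c i → (g : Matrix B B F) i j = 0) ∧
      ∀ i j, c i = c j → (g : Matrix B B F) i j = (1 : Matrix B B F) i j := by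
  constructor
  · rintro ⟨g, hg, rfl⟩
    refine ⟨mem_par.1 g.2, fun i j hij => ?_⟩
    have h := congrArg (fun x : ∀ k, GL {i // c i = k} F => (x (c j)).val ⟨i, hij⟩ ⟨j, rfl⟩)
      (MonoidHom.mem_ker.1 hg)
    simp only [proj_apply, Pi.one_apply, Units.val_one] at h
    rw [Subgroup.coe_subtype, h]
    simp [Matrix.one_apply]
  · rintro ⟨h1, h2⟩
    refine ⟨⟨g, mem_par.2 h1⟩, MonoidHom.mem_ker.2 (funext fun k => Units.ext (Matrix.ext fun i j => ?_)), rfl⟩
    rw [proj_apply, h2 _ _ (i.2.trans j.2.symm)]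
    simp [Matrix.one_apply, Subtype.ext_iff]

section Incl

variable {k : ℕ}

/-- Block diagonal matrices. -/
def inclM (c : B → Fin k) : (∀ a, GL {i // c i = a} F) →* Matrix B B F where
  toFun x := Matrix.of fun i j =>
    if h : c j = c i then (x (c i)).val ⟨i, rfl⟩ ⟨j, h⟩ else 0
  map_one' := by
    ext i j
    by_cases h : c j = c i
    · simp [h, Matrix.one_apply]
    · have : i ≠ j := fun e => h (by rw [e])
      simp [h, Matrix.one_apply, this]
  map_mul' x y := by
    ext i j
    simp only [Matrix.of_apply, Matrix.mul_apply, Pi.mul_apply, Units.val_mul]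
    by_cases h : c j = c i
    · rw [dif_pos h]
      rw [← Finset.sum_subset (Finset.subset_univ (Finset.univ.filter fun l => c l = c i)) (fun l _ hl => by
        rw [dif_neg (by simpa using hl), zero_mul]),
        Finset.sum_subtype (Finset.univ.filter fun l => c l = c i) (p := fun l => c l = c i) (by simp)]
      refine Finset.sum_congr rfl fun l _ => ?_
      rw [dif_pos l.2, dif_pos (h.trans l.2.symm)]
      congr 1
      obtain ⟨l, hl⟩ := l
      simp only
      have key : ∀ (a : Fin k) (e : c i = a) (hl' : c l = a) (hj' : c j = a),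
          (y (c i)).val ⟨l, hl⟩ ⟨j, h⟩ = (y a).val ⟨l, hl'⟩ ⟨j, hj'⟩ := by
        intro a e hl' hj'
        subst e
        rfl
      exact key (c l) hl.symm rfl (h.trans hl.symm)
    · rw [dif_neg h]
      symm
      refine Finset.sum_eq_zero fun l _ => ?_
      by_cases hl : c l = c i
      · rw [dif_neg (show ¬ c j = c l from fun e => h (e.trans hl)), mul_zero]
      · rw [dif_neg hl, zero_mul]

/-- The Levi subgroup as a homomorphism. -/
def incl (c : B → Fin k) : (∀ a, GL {i // c i = a} F) →* GL B F := (inclM c).toHomUnits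

theorem incl_apply (c : B → Fin k) (x : ∀ a, GL {i // c i = a} F) (i j : B) :
    (incl c x : Matrix B B F) i j = if h : c j = c i then (x (c i)).val ⟨i, rfl⟩ ⟨j, h⟩ else 0 := rfl

theorem incl_mem {κ' : Type*} [LinearOrder κ'] (c : B → Fin k) (c' : B → κ')
    (h : ∀ i j, c i = c j → c' i = c' j) (x : ∀ a, GL {i // c i = a} F) : incl c x ∈ par c' := by
  refine mem_par.2 fun i j hij => ?_
  rw [incl_apply, dif_neg fun e => hij.ne (h _ _ e)]

theorem proj_incl (c : B → Fin k) (x : ∀ a, GL {i // c i = a} F) :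
    proj c ⟨incl c x, incl_mem c c (fun _ _ h => h) x⟩ = x := by
  refine funext fun a => Units.ext (Matrix.ext fun i j => ?_)
  obtain ⟨i, rfl⟩ := i
  rw [proj_apply, incl_apply, dif_pos j.2]

end Incl

end Parabolic

section Reindex

variable {F : Type*} [Field F] [Fintype F] [DecidableEq F]
variable {A B : Type*} [Fintype A] [DecidableEq A] [Fintype B] [DecidableEq B]

/-- Reindexing. -/
def reGL (e : A ≃ B) : GL A F ≃* GL B F := Units.mapEquiv (Matrix.reindexAlgEquiv F F e).toMulEquiv

theorem reGL_apply (e : A ≃ B) (g : GL A F) (i j : B) :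
    (reGL e g : Matrix B B F) i j = (g : Matrix A A F) (e.symm i) (e.symm j) := rfl

theorem reGL_trans {C : Type*} [Fintype C] [DecidableEq C] (e : A ≃ B) (e' : B ≃ C) (g : GL A F) :
    reGL (e.trans e') g = reGL e' (reGL e g) := rfl

theorem reGL_refl (g : GL A F) : reGL (Equiv.refl A) g = g := rfl

/-- The permutation matrix. -/
def permG (σ : Equiv.Perm B) : GL B F :=
  ⟨Matrix.of fun i j => if i = σ j then 1 else 0, Matrix.of fun i j => if σ i = j then 1 else 0, by
    ext i j
    rw [Matrix.mul_apply, Finset.sum_eq_single (σ.symm i)]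
    · simp [Matrix.one_apply]
    · intro l _ hl
      simp [show i ≠ σ l from fun h => hl (by rw [h, Equiv.symm_apply_apply])]
    · simp, by
    ext i j
    rw [Matrix.mul_apply, Finset.sum_eq_single (σ i)]
    · simp [Matrix.one_apply]
    · intro l _ hl
      simp [Ne.symm hl]
    · simp⟩

theorem permG_apply (σ : Equiv.Perm B) (i j : B) :
    ((permG σ : GL B F) : Matrix B B F) i j = if i = σ j then 1 else 0 := rfl

theorem permG_mul_apply (σ : Equiv.Perm B) (g : GL B F) (i j : B) :
    ((permG σ * g : GL B F) : Matrix B B F) i j = (g : Matrix B B F) (σ.symm i) j := by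
  rw [Units.val_mul, Matrix.mul_apply, Finset.sum_eq_single (σ.symm i)]
  · simp [permG_apply]
  · intro l _ hl
    simp [permG_apply, show i ≠ σ l from fun h => hl (by rw [h, Equiv.symm_apply_apply])]
  · simp

theorem mul_permG_apply (σ : Equiv.Perm B) (g : GL B F) (i j : B) :
    ((g * permG σ : GL B F) : Matrix B B F) i j = (g : Matrix B B F) i (σ j) := by
  rw [Units.val_mul, Matrix.mul_apply, Finset.sum_eq_single (σ j)]
  · simp [permG_apply]
  · intro l _ hl
    simp [permG_apply, hl]
  · simp

theorem permG_conj (σ : Equiv.Perm B) (g : GL B F) : permG σ * g = reGL σ g * permG σ := by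
  refine Units.ext (Matrix.ext fun i j => ?_)
  rw [permG_mul_apply, mul_permG_apply, reGL_apply, Equiv.symm_apply_apply]

theorem inv_permG_conj (σ : Equiv.Perm B) (g : GL B F) :
    (permG σ)⁻¹ * g * permG σ = reGL σ.symm g := by
  rw [mul_assoc, inv_mul_eq_iff_eq_mul, permG_conj]
  congr 1
  refine Units.ext (Matrix.ext fun i j => ?_)
  simp [reGL_apply]

theorem reGL_eq_conj (e e' : A ≃ B) (g : GL A F) :
    reGL e' g = permG (e.symm.trans e') * reGL e g * (permG (e.symm.trans e'))⁻¹ := by
  rw [eq_mul_inv_iff_mul_eq, permG_conj, ← reGL_trans]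
  rw [show e.trans (e.symm.trans e') = e' by ext a; simp]

theorem classFun_reGL {χ : GL B F → ℂ} (hχ : IsClassFunction (GL B F) χ) (e e' : A ≃ B) (g : GL A F) :
    χ (reGL e' g) = χ (reGL e g) := by
  rw [reGL_eq_conj e e' g]
  exact hχ _ _

theorem reGL_mem_par {κ : Type*} [LinearOrder κ] (e : A ≃ B) (d : B → κ) (g : GL A F) :
    reGL e g ∈ par d ↔ g ∈ par (d ∘ e) := by
  rw [mem_par, mem_par]
  constructor
  · intro h i j hij
    have := h (e i) (e j) hij
    rwa [reGL_apply, Equiv.symm_apply_apply, Equiv.symm_apply_apply] at this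
  · intro h i j hij
    rw [reGL_apply]
    exact h _ _ (by simpa using hij)

theorem reGL_mem_rad {κ : Type*} [LinearOrder κ] (e : A ≃ B) (d : B → κ) (g : GL A F) :
    reGL e g ∈ rad d ↔ g ∈ rad (d ∘ e) := by
  rw [mem_rad, mem_rad]
  refine and_congr ?_ ?_
  · constructor
    · intro h i j hij
      have := h (e i) (e j) hij
      rwa [reGL_apply, Equiv.symm_apply_apply, Equiv.symm_apply_apply] at this
    · intro h i j hij
      rw [reGL_apply]
      exact h _ _ (by simpa using hij)
  · constructor
    · intro h i j hij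
      have := h (e i) (e j) hij
      rw [reGL_apply, Equiv.symm_apply_apply, Equiv.symm_apply_apply] at this
      rw [this]
      simp [Matrix.one_apply]
    · intro h i j hij
      rw [reGL_apply, h _ _ (by simpa using hij)]
      simp [Matrix.one_apply]

end Reindex

section Cusp

variable {F : Type*} [Field F] [Fintype F] [DecidableEq F]

open Classical in
/-- A function is cuspidal if it sums to zero over every maximal parabolic radical. -/
def Cusp {B : Type*} [Fintype B] [DecidableEq B] (χ : GL B F → ℂ) : Prop :=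
  ∀ c : B → Fin 2, Function.Surjective c → (∑ g : GL B F, if g ∈ rad c then χ g else 0) = 0

theorem Cusp.comp_reGL {A B : Type*} [Fintype A] [DecidableEq A] [Fintype B] [DecidableEq B]
    {χ : GL B F → ℂ} (h : Cusp χ) (e : A ≃ B) : Cusp (χ ∘ reGL e) := by
  classical
  intro c hc
  refine (Fintype.sum_equiv (reGL e).toEquiv _
    (fun g => if g ∈ rad (c ∘ e.symm) then χ g else 0) fun g => ?_).trans (h (c ∘ e.symm) (hc.comp e.symm.surjective))
  show _ = if reGL e g ∈ rad (c ∘ e.symm) then χ (reGL e g) else 0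
  have : reGL e g ∈ rad (c ∘ e.symm) ↔ g ∈ rad c := by
    rw [reGL_mem_rad, Function.comp_assoc, Equiv.symm_comp_self, Function.comp_id]
  simp only [this, Function.comp_apply]

variable {B : Type*} [Fintype B] [DecidableEq B] {k l : ℕ}

/-- The inflation of a product of functions on the blocks. -/
def infl (c : B → Fin k) (σ : ∀ a, GL {i // c i = a} F → ℂ) : par (F := F) c → ℂ :=
  fun g => ∏ a, σ a (proj c g a)

theorem proj_surjective (c : B → Fin k) : Function.Surjective (proj (F := F) c) :=
  fun x => ⟨_, proj_incl c x⟩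

theorem isIrr_infl (c : B → Fin k) (σ : ∀ a, IrrCharacter (GL {i // c i = a} F)) :
    IsIrrCharacter (par (F := F) c) (infl c fun a => (σ a : _ → ℂ)) :=
  H12.IsIrrCharacter.comp_surjective (isIrr_pi fun a => (σ a).2) (proj_surjective c)

theorem isClassFunction_infl (c : B → Fin k) (σ : ∀ a, GL {i // c i = a} F → ℂ)
    (h : ∀ a, IsClassFunction _ (σ a)) : IsClassFunction (par (F := F) c) (infl c σ) := by
  intro g x
  refine Finset.prod_congr rfl fun a _ => ?_
  rw [map_mul, map_mul, map_inv, Pi.mul_apply, Pi.mul_apply, Pi.inv_apply]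
  exact h a _ _

/-- The unnormalised pairing of two inflated functions. -/
noncomputable def pairSum (c : B → Fin k) (σ : ∀ a, GL {i // c i = a} F → ℂ) (c' : B → Fin l)
    (τ : ∀ a, GL {i // c' i = a} F → ℂ) : ℂ :=
  ∑ g : GL B F, extendByZero (par c) (infl c σ) g * conj (extendByZero (par c') (infl c' τ) g)

theorem pairSum_swap (c : B → Fin k) (σ : ∀ a, GL {i // c i = a} F → ℂ) (c' : B → Fin l)
    (τ : ∀ a, GL {i // c' i = a} F → ℂ) : pairSum c' τ c σ = conj (pairSum c σ c' τ) := by
  rw [pairSum, pairSum, map_sum]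
  exact Finset.sum_congr rfl fun g _ => by rw [map_mul, Complex.conj_conj, mul_comm]

/-- Labellings one of which splits a cuspidal block of the other pair to zero. -/
theorem pairSum_eq_zero (c : B → Fin k) (σ : ∀ a, GL {i // c i = a} F → ℂ)
    (hσ : ∀ a, IsCharacter _ (σ a)) (hcu : ∀ a, Cusp (σ a)) (c' : B → Fin l)
    (τ : ∀ a, GL {i // c' i = a} F → ℂ) {i₀ j₀ : B} (hc : c i₀ = c j₀) (hc' : c' i₀ ≠ c' j₀) :
    pairSum c σ c' τ = 0 := by
  classical
  obtain ⟨a, ha⟩ : ∃ a, c j₀ = a := ⟨_, rfl⟩
  rw [ha] at hc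
  haveI : Nonempty {i // c i = a} := ⟨⟨j₀, ha⟩⟩
  obtain ⟨m, hm⟩ := Finite.exists_min (fun i : {i // c i = a} => c' i.1)
  let c2 : {i // c i = a} → Fin 2 := fun i => if c' i.1 = c' m.1 then 0 else 1
  have hc2 : Function.Surjective c2 := by
    intro z
    fin_cases z
    · exact ⟨m, if_pos rfl⟩
    · by_cases h : c' i₀ = c' m.1
      · exact ⟨⟨j₀, ha⟩, if_neg fun e => hc' (h.trans e.symm)⟩
      · exact ⟨⟨i₀, hc⟩, if_neg h⟩
  set V := rad (F := F) c2
  have hv : ∀ v : V, incl c (Pi.mulSingle a (v : GL {i // c i = a} F)) ∈ rad c' := by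
    intro v
    obtain ⟨v1, v2⟩ := mem_rad.1 v.2
    refine mem_rad.2 ⟨fun i j hij => ?_, fun i j hij => ?_⟩
    · rw [incl_apply]
      split_ifs with h
      · rcases eq_or_ne (c i) a with hi | hi
        · subst hi
          rw [Pi.mulSingle_eq_same]
          have hlt : c' j < c' i := hij
          have hi0 : c2 ⟨i, rfl⟩ = 1 :=
            if_neg fun (e : c' i = c' m.1) => absurd (hm ⟨j, h⟩) (not_le.2 (show c' j < c' m.1 from e ▸ hlt))
          by_cases hj : c' j = c' m.1
          · refine v1 _ _ ?_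
            rw [hi0, show c2 ⟨j, h⟩ = 0 from if_pos hj]
            decide
          · rw [v2 _ _ (by rw [hi0, show c2 ⟨j, h⟩ = 1 from if_neg hj])]
            simp [Matrix.one_apply, show i ≠ j from fun e => hlt.ne (by rw [e])]
        · rw [Pi.mulSingle_eq_of_ne hi]
          simp [Matrix.one_apply, show i ≠ j from fun e => hij.ne (by rw [e])]
      · rfl
    · rw [incl_apply]
      split_ifs with h
      · rcases eq_or_ne (c i) a with hi | hi
        · subst hi
          rw [Pi.mulSingle_eq_same, v2 _ _ (by simp only [c2, hij])]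
          simp [Matrix.one_apply]
        · rw [Pi.mulSingle_eq_of_ne hi]
          simp [Matrix.one_apply]
      · simp [Matrix.one_apply, show i ≠ j from fun e => h (by rw [e])]
  set H := par (F := F) c ⊓ par c'
  let p : H →* _ := (proj c).comp (Subgroup.inclusion inf_le_left)
  let p' : H →* _ := (proj c').comp (Subgroup.inclusion inf_le_right)
  let f : H → ℂ := fun h => (∏ b, σ b (p h b)) * conj (∏ b, τ b (p' h b))
  have hS : pairSum c σ c' τ = ∑ h : H, f h := by
    rw [← sum_ite_subgroup H (fun g => extendByZero (par c) (infl c σ) g *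
      conj (extendByZero (par c') (infl c' τ) g)) |>.trans (Finset.sum_congr rfl fun h _ => by
        rw [H13.extendByZero_mem _ _ h.2.1, H13.extendByZero_mem _ _ h.2.2]; rfl)]
    refine Finset.sum_congr rfl fun g _ => ?_
    split_ifs with hg
    · rfl
    · rw [Subgroup.mem_inf, not_and_or] at hg
      rcases hg with hg | hg <;> simp [H13.extendByZero_notMem _ _ hg]
  rw [hS]
  let w : V → H := fun v =>
    ⟨incl c (Pi.mulSingle a (v : GL {i // c i = a} F)), incl_mem c c (fun _ _ h => h) _, rad_le_par c' (hv v)⟩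
  have hshift : ∀ v : V, ∑ h, f (h * w v) = ∑ h, f h := fun v =>
    Fintype.sum_equiv (Equiv.mulRight (w v)) _ _ fun h => rfl
  have hzero : ∀ h : H, ∑ v : V, f (h * w v) = 0 := by
    intro h
    have hp : ∀ v : V, p (h * w v) = p h * Pi.mulSingle a (v : GL {i // c i = a} F) := fun v => by
      rw [map_mul]
      exact congrArg _ (proj_incl c _)
    have hp' : ∀ v : V, p' (h * w v) = p' h := fun v => by
      rw [map_mul]
      obtain ⟨g, hg, he⟩ := hv v
      have : p' (w v) = 1 := by
        rw [← MonoidHom.mem_ker.1 hg]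
        exact congrArg (proj c') (Subtype.ext he.symm)
      rw [this, mul_one]
    simp only [f, hp, hp', ← Finset.sum_mul]
    refine mul_eq_zero_of_left ?_ _
    have e : ∀ v : V, ∏ b, σ b ((p h * (Pi.mulSingle a (v : GL {i // c i = a} F) : ∀ b, GL {i // c i = b} F)) b) =
        σ a (p h a * v) * ∏ b ∈ Finset.univ.erase a, σ b (p h b) := by
      intro v
      rw [← Finset.mul_prod_erase _ _ (Finset.mem_univ a), Pi.mul_apply, Pi.mulSingle_eq_same]
      congr 1
      refine Finset.prod_congr rfl fun b hb => ?_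
      rw [Pi.mul_apply, Pi.mulSingle_eq_of_ne (Finset.ne_of_mem_erase hb), mul_one]
    simp only [e, ← Finset.sum_mul]
    rw [sum_coset_eq_zero (hσ a) V ?_ (p h a), zero_mul]
    rw [← sum_ite_subgroup V]
    exact hcu a c2 hc2
  have h0 : (Fintype.card V : ℂ) * ∑ h, f h = 0 := by
    calc (Fintype.card V : ℂ) * ∑ h, f h = ∑ v : V, ∑ h, f (h * w v) := by
          simp [hshift, Finset.sum_const, nsmul_eq_mul]
      _ = 0 := by rw [Finset.sum_comm]; exact Finset.sum_eq_zero fun h _ => hzero h
  exact (mul_eq_zero.1 h0).resolve_left (Nat.cast_ne_zero.2 Fintype.card_ne_zero)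

/-- The identification of the blocks of labellings with the same blocks. -/
def fibEquiv {c : B → Fin k} {c' : B → Fin l} (π : Fin k ≃ Fin l) (h : c' = π ∘ c) (a : Fin k) :
    {i // c i = a} ≃ {i // c' i = π a} :=
  Equiv.subtypeEquivRight fun i => by subst h; exact (π.injective.eq_iff).symm

theorem pairSum_same_blocks (c : B → Fin k) (σ : ∀ a, GL {i // c i = a} F → ℂ) (c' : B → Fin l)
    (τ : ∀ a, GL {i // c' i = a} F → ℂ) (π : Fin k ≃ Fin l) (h : c' = π ∘ c) :
    pairSum c σ c' τ / (Nat.card (par (F := F) c ⊓ par c' : Subgroup (GL B F)) : ℂ) =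
      ∏ a, classInner (σ a) (τ (π a) ∘ reGL (fibEquiv π h a)) := by
  classical
  set H := par (F := F) c ⊓ par c'
  let p : H →* _ := (proj c).comp (Subgroup.inclusion inf_le_left)
  have hp : Function.Surjective p := fun x =>
    ⟨⟨incl c x, incl_mem c c (fun _ _ e => e) x, incl_mem c c' (fun i j e => by subst h; simp [e]) x⟩,
      proj_incl c x⟩
  let f : (∀ a, GL {i // c i = a} F) → ℂ := fun x =>
    (∏ a, σ a (x a)) * conj (∏ a, τ (π a) (reGL (fibEquiv π h a) (x a)))
  have hf : ∀ g : H, (infl c σ (⟨(g : GL B F), g.2.1⟩ : par c) * conj (infl c' τ (⟨(g : GL B F), g.2.2⟩ : par c'))) = f (p g) := by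
    intro g
    refine congrArg₂ (fun u v => u * conj v) rfl ?_
    refine (Equiv.prod_comp π fun b => τ b (proj c' (⟨(g : GL B F), g.2.2⟩ : par c') b)).symm.trans ?_
    refine Finset.prod_congr rfl fun a _ => congrArg (τ (π a)) (Units.ext (Matrix.ext fun i j => ?_))
    show _ = (reGL (fibEquiv π h a) (proj c (⟨(g : GL B F), g.2.1⟩ : par c) a)).val i j
    rw [reGL_apply, proj_apply, proj_apply]
    rfl
  have hS : pairSum c σ c' τ = ∑ g : H, f (p g) := by
    rw [← sum_ite_subgroup H (fun g => extendByZero (par c) (infl c σ) g *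
      conj (extendByZero (par c') (infl c' τ) g)) |>.trans (Finset.sum_congr rfl fun g _ => by
        rw [H13.extendByZero_mem _ _ g.2.1, H13.extendByZero_mem _ _ g.2.2, hf g])]
    · refine Finset.sum_congr rfl fun g _ => ?_
      split_ifs with hg
      · rfl
      · rw [Subgroup.mem_inf, not_and_or] at hg
        rcases hg with hg | hg <;> simp [H13.extendByZero_notMem _ _ hg]
  have hS' : pairSum c σ c' τ = ∑ g : H, f (p g) := hS
  have hL : (Fintype.card (∀ a, GL {i // c i = a} F) : ℂ) ≠ 0 := Nat.cast_ne_zero.2 Fintype.card_ne_zero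
  have hH : (Fintype.card H : ℂ) ≠ 0 := Nat.cast_ne_zero.2 Fintype.card_ne_zero
  have key := sum_comp_hom p hp f
  rw [hS', ← classInner_pi, H12.classInner_def, Nat.card_eq_fintype_card (α := ∀ a, GL {i // c i = a} F),
    Nat.card_eq_fintype_card (α := H)]
  have e : ∑ x, f x = ∑ x : (∀ a, GL {i // c i = a} F),
      (∏ a, σ a (x a)) * conj (∏ a, (τ (π a) ∘ reGL (fibEquiv π h a)) (x a)) := rfl
  rw [← e, div_eq_iff hH, mul_assoc, eq_inv_mul_iff_mul_eq₀ hL, key, mul_comm]

/-- Conjugating the second labelling by a permutation matrix. -/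
theorem mackeyTerm_par (c : B → Fin k) (σ : ∀ a, GL {i // c i = a} F → ℂ) (d : B → Fin l)
    (τ : ∀ a, GL {i // d i = a} F → ℂ) (w : Equiv.Perm B) :
    mackeyTerm (par c) (par d) (infl c σ) (infl d τ) (permG w) =
      pairSum c σ (d ∘ w.symm) (fun a => τ a ∘ reGL (w.symm.subtypeEquiv (p := fun i => d (w.symm i) = a) (q := fun i => d i = a) fun _ => Iff.rfl)) := by
  refine Finset.sum_congr rfl fun g _ => ?_
  rw [inv_permG_conj]
  congr 2
  by_cases hg : g ∈ par (d ∘ w.symm)
  · rw [H13.extendByZero_mem _ _ hg, H13.extendByZero_mem _ _ ((reGL_mem_par w.symm d g).2 hg)]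
    refine Finset.prod_congr rfl fun a _ => ?_
    show τ a _ = τ a _
    congr 1
  · rw [H13.extendByZero_notMem _ _ hg, H13.extendByZero_notMem]
    rwa [reGL_mem_par]

end Cusp

end H17.GLC
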