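import Mathlib

/-!
Counting monic irreducible polynomials over a finite field through factorisations.
-/

set_option autoImplicit false

namespace H17.GLC

open Polynomial UniqueFactorizationMonoid

/-- Multisets of labelled items of total weight `n`. -/
abbrev MSW (T : ℕ → Type*) (n : ℕ) : Type _ := {m : Multiset (Σ d, T d) // (m.map Sigma.fst).sum = n}

/-- A multiset of weight `n` is a single item of weight `n` or has items of smaller weight. -/
theorem msw_split {U : ℕ → Type*} (hU : IsEmpty (U 0)) {n : ℕ} (hn : 0 < n) :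
    Nonempty (MSW U n ≃ U n ⊕ {m : Multiset (Σ d : {d // d < n}, U d.1) //
      (m.map fun x => x.1.1).sum = n}) := by
  classical
  let e : (Σ d : {d // d < n}, U d.1) → Σ d, U d := fun x => ⟨x.1.1, x.2⟩
  have he : Function.Injective e := by
    rintro ⟨⟨d, hd⟩, x⟩ ⟨⟨d', hd'⟩, x'⟩ hxx
    obtain rfl : d = d' := congrArg Sigma.fst hxx
    obtain rfl : x = x' := eq_of_heq (Sigma.mk.inj_iff.1 hxx).2
    rfl
  let g : U n ⊕ {m : Multiset (Σ d : {d // d < n}, U d.1) // (m.map fun x => x.1.1).sum = n} → MSW U n :=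
    Sum.elim (fun x => ⟨{⟨n, x⟩}, by simp⟩)
      (fun m => ⟨m.1.map e, by rw [Multiset.map_map]; exact m.2⟩)
  refine ⟨(Equiv.ofBijective g ⟨?_, ?_⟩).symm⟩
  · rintro (x | m) (x' | m') hg <;> have hg' := congrArg Subtype.val hg <;> simp only [g, Sum.elim_inl, Sum.elim_inr] at hg'
    · rw [Multiset.singleton_inj] at hg'
      rw [eq_of_heq (Sigma.mk.inj_iff.1 hg').2]
    · have hmem : (⟨n, x⟩ : Σ d, U d) ∈ m'.1.map e := hg' ▸ Multiset.mem_singleton_self _
      obtain ⟨z, -, hz⟩ := Multiset.mem_map.1 hmem
      exact absurd (congrArg Sigma.fst hz) z.1.2.ne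
    · have hmem : (⟨n, x'⟩ : Σ d, U d) ∈ m.1.map e := hg' ▸ Multiset.mem_singleton_self _
      obtain ⟨z, -, hz⟩ := Multiset.mem_map.1 hmem
      exact absurd (congrArg Sigma.fst hz) z.1.2.ne
    · rw [Subtype.ext (Multiset.map_injective he hg')]
  · rintro ⟨m, hm⟩
    by_cases hbig : ∃ z ∈ m, n ≤ z.1
    · obtain ⟨⟨d, x⟩, hz, hd⟩ := hbig
      obtain ⟨r, rfl⟩ := Multiset.exists_cons_of_mem hz
      simp only [Multiset.map_cons, Multiset.sum_cons] at hm
      have hd' : n ≤ d := hd
      obtain rfl : d = n := by omega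
      have hr : r = 0 := by
        refine Multiset.eq_zero_of_forall_notMem fun z hzr => ?_
        have hle := Multiset.le_sum_of_mem (Multiset.mem_map_of_mem Sigma.fst hzr)
        obtain ⟨dz, y⟩ := z
        have hdz : dz = 0 := by
          have : dz ≤ (r.map Sigma.fst).sum := hle
          omega
        subst hdz
        exact hU.false y
      exact ⟨Sum.inl x, Subtype.ext (by simp [g, hr])⟩
    · push Not at hbig
      refine ⟨Sum.inr ⟨m.pmap (fun z hz => (⟨⟨z.1, hz⟩, z.2⟩ : Σ d : {d // d < n}, U d.1)) hbig, ?_⟩,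
        Subtype.ext ?_⟩
      · rw [Multiset.map_pmap, Multiset.pmap_eq_map]
        exact hm
      · show (Multiset.pmap _ m hbig).map e = m
        rw [Multiset.map_pmap]
        exact (Multiset.pmap_eq_map _ (fun z => z) m hbig).trans (Multiset.map_id' m)

theorem finite_of_msw {U : ℕ → Type*} (hU : IsEmpty (U 0)) (hUf : ∀ k, 0 < k → Finite (MSW U k)) (d : ℕ) :
    Finite (U d) := by
  rcases Nat.eq_zero_or_pos d with rfl | hd
  · infer_instance
  · haveI := hUf d hd
    exact Finite.of_injective (fun x : U d => (⟨{⟨d, x⟩}, by simp⟩ : MSW U d)) fun x y hxy =>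
      eq_of_heq (Sigma.mk.inj_iff.1 (Multiset.singleton_inj.1 (congrArg Subtype.val hxy))).2

/-- Families with equally many multisets of each weight have equally many members of each weight. -/
theorem card_eq_of_msw {T : ℕ → Type*} {S : ℕ → Type*} (hT0 : IsEmpty (T 0)) (hS0 : IsEmpty (S 0))
    (hTf : ∀ n, 0 < n → Finite (MSW T n)) (hSf : ∀ n, 0 < n → Finite (MSW S n))
    (h : ∀ n, 0 < n → Nat.card (MSW T n) = Nat.card (MSW S n)) :
    ∀ n, Nat.card (T n) = Nat.card (S n) := by
  classical
  intro n
  induction n using Nat.strong_induction_on with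
  | _ n ih =>
  rcases Nat.eq_zero_or_pos n with rfl | hn
  · simp
  obtain ⟨eT⟩ := msw_split hT0 hn
  obtain ⟨eS⟩ := msw_split hS0 hn
  haveI := hTf n hn
  haveI := hSf n hn
  haveI : Finite (T n ⊕ {m : Multiset (Σ d : {d // d < n}, T d.1) // (m.map fun x => x.1.1).sum = n}) :=
    Finite.of_equiv _ eT
  haveI : Finite (S n ⊕ {m : Multiset (Σ d : {d // d < n}, S d.1) // (m.map fun x => x.1.1).sum = n}) :=
    Finite.of_equiv _ eS
  haveI : Finite (T n) := Finite.sum_left {m : Multiset (Σ d : {d // d < n}, T d.1) // (m.map fun x => x.1.1).sum = n}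
  haveI : Finite (S n) := Finite.sum_left {m : Multiset (Σ d : {d // d < n}, S d.1) // (m.map fun x => x.1.1).sum = n}
  haveI : Finite {m : Multiset (Σ d : {d // d < n}, T d.1) // (m.map fun x => x.1.1).sum = n} :=
    Finite.sum_right (T n)
  haveI : Finite {m : Multiset (Σ d : {d // d < n}, S d.1) // (m.map fun x => x.1.1).sum = n} :=
    Finite.sum_right (S n)
  have hall := h n hn
  rw [Nat.card_congr eT, Nat.card_congr eS, Nat.card_sum, Nat.card_sum] at hall
  have hTfin : ∀ d, Finite (T d) := finite_of_msw hT0 hTf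
  have hSfin : ∀ d, Finite (S d) := finite_of_msw hS0 hSf
  let ed : ∀ d : {d // d < n}, T d.1 ≃ S d.1 := fun d =>
    haveI := hTfin d.1
    haveI := hSfin d.1
    (Finite.equivFin _).trans ((finCongr (ih d.1 d.2)).trans (Finite.equivFin _).symm)
  let eσ : (Σ d : {d // d < n}, T d.1) ≃ (Σ d : {d // d < n}, S d.1) := Equiv.sigmaCongrRight ed
  have hlow : Nat.card {m : Multiset (Σ d : {d // d < n}, T d.1) // (m.map fun x => x.1.1).sum = n} =
      Nat.card {m : Multiset (Σ d : {d // d < n}, S d.1) // (m.map fun x => x.1.1).sum = n} := by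
    refine Nat.card_congr
      { toFun := fun m => ⟨m.1.map eσ, by rw [Multiset.map_map]; exact m.2⟩
        invFun := fun m => ⟨m.1.map eσ.symm, by rw [Multiset.map_map]; exact m.2⟩
        left_inv := fun m => Subtype.ext (by simp [Multiset.map_map])
        right_inv := fun m => Subtype.ext (by simp [Multiset.map_map]) }
  omega

variable (F : Type*) [Field F]

/-- Monic irreducible polynomials of degree `d` other than `X`. -/
abbrev MonIrr (d : ℕ) : Type _ :=
  {p : F[X] // p.Monic ∧ Irreducible p ∧ p.natDegree = d ∧ p.coeff 0 ≠ 0}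

/-- Monic polynomials of degree `n` with nonzero constant term. -/
abbrev MonPoly (n : ℕ) : Type _ := {p : F[X] // p.Monic ∧ p.natDegree = n ∧ p.coeff 0 ≠ 0}

theorem monIrr_zero : IsEmpty (MonIrr F 0) :=
  ⟨fun p => p.2.2.1.natDegree_pos.ne' p.2.2.2.1⟩

/-- Factorisation. -/
theorem exists_factor_equiv (n : ℕ) : Nonempty (MSW (MonIrr F) n ≃ MonPoly F n) := by
  classical
  let v : (Σ d, MonIrr F d) → F[X] := fun z => z.2.1
  have hv : Function.Injective v := by
    rintro ⟨d, p, hp⟩ ⟨d', p', hp'⟩ hpp
    obtain rfl : p = p' := hpp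
    obtain rfl : d = d' := hp.2.2.1.symm.trans hp'.2.2.1
    rfl
  have hprod : ∀ m : Multiset (Σ d, MonIrr F d),
      (m.map v).prod.Monic ∧ (m.map v).prod.natDegree = (m.map Sigma.fst).sum ∧ (m.map v).prod.coeff 0 ≠ 0 := by
    intro m
    induction m using Multiset.induction with
    | empty => simp
    | cons a m ih =>
      obtain ⟨d, p, hp1, hp2, hp3, hp4⟩ := a
      simp only [Multiset.map_cons, Multiset.prod_cons, Multiset.sum_cons, v]
      refine ⟨hp1.mul ih.1, ?_, ?_⟩
      · rw [hp1.natDegree_mul ih.1, hp3]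
        exact congrArg (d + ·) ih.2.1
      · rw [Polynomial.mul_coeff_zero]
        exact mul_ne_zero hp4 ih.2.2
  refine ⟨Equiv.ofBijective (fun m => ⟨(m.1.map v).prod, (hprod m.1).1, (hprod m.1).2.1.trans m.2, (hprod m.1).2.2⟩)
    ⟨?_, ?_⟩⟩
  · rintro ⟨m, hm⟩ ⟨m', hm'⟩ h
    have h' : (m.map v).prod = (m'.map v).prod := congrArg Subtype.val h
    have key : ∀ s : Multiset (Σ d, MonIrr F d), normalizedFactors (s.map v).prod = s.map v := by
      intro s
      rw [normalizedFactors_prod_eq _ fun a ha => ?_]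
      · rw [Multiset.map_map]
        refine Multiset.map_congr rfl fun z _ => ?_
        exact z.2.2.1.normalize_eq_self
      · obtain ⟨z, -, rfl⟩ := Multiset.mem_map.1 ha
        exact z.2.2.2.1
    exact Subtype.ext (Multiset.map_injective hv ((key m).symm.trans ((congrArg normalizedFactors h').trans (key m'))))
  · rintro ⟨p, hp1, hp2, hp3⟩
    have hp0 : p ≠ 0 := hp1.ne_zero
    have hfac : ∀ a ∈ normalizedFactors p, a.Monic ∧ Irreducible a ∧ a.natDegree = a.natDegree ∧ a.coeff 0 ≠ 0 := by
      intro a ha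
      have hirr := irreducible_of_normalized_factor a ha
      refine ⟨?_, hirr, rfl, ?_⟩
      · rw [← normalize_normalized_factor a ha]
        exact Polynomial.monic_normalize hirr.ne_zero
      · intro h0
        obtain ⟨r, hr⟩ := dvd_of_mem_normalizedFactors ha
        exact hp3 (by rw [hr, Polynomial.mul_coeff_zero, h0, zero_mul])
    set m : Multiset (Σ d, MonIrr F d) :=
      (normalizedFactors p).pmap (fun a ha => ⟨a.natDegree, a, ha⟩) hfac with hm
    have hmv : m.map v = normalizedFactors p := by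
      rw [hm, Multiset.map_pmap, Multiset.pmap_eq_map]
      exact Multiset.map_id _
    have hmp : (m.map v).prod = p := by
      rw [hmv, prod_normalizedFactors_eq hp0, hp1.normalize_eq_self]
    refine ⟨⟨m, ?_⟩, Subtype.ext hmp⟩
    rw [← (hprod m).2.1, hmp, hp2]

variable [Fintype F]

theorem card_monPoly (n : ℕ) (hn : 0 < n) :
    Nat.card (MonPoly F n) = (Fintype.card F - 1) * Fintype.card F ^ (n - 1) := by
  classical
  have hcard : Nat.card (Fˣ × (Fin (n - 1) → F)) = (Fintype.card F - 1) * Fintype.card F ^ (n - 1) := by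
    rw [Nat.card_eq_fintype_card, Fintype.card_prod, Fintype.card_fun, Fintype.card_units, Fintype.card_fin]
  rw [← hcard]
  refine Nat.card_congr (Equiv.ofBijective
    (fun p => (Units.mk0 (p.1.coeff 0) p.2.2.2, fun i : Fin (n - 1) => p.1.coeff (i.val + 1))) ⟨?_, ?_⟩)
  · rintro ⟨p, hp1, hp2, hp3⟩ ⟨p', hp1', hp2', hp3'⟩ h
    refine Subtype.ext (Polynomial.ext fun j => ?_)
    show p.coeff j = p'.coeff j
    rcases lt_trichotomy j n with hj | rfl | hj
    · rcases Nat.eq_zero_or_pos j with rfl | hj0
      · exact congrArg (fun z => ((z.1 : Fˣ) : F)) h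
      · have := congrFun (congrArg Prod.snd h) ⟨j - 1, by omega⟩
        simp only [Nat.sub_add_cancel hj0] at this
        exact this
    · have h1 : p.coeff j = 1 := by rw [← hp2]; exact hp1
      have h2 : p'.coeff j = 1 := by rw [← hp2']; exact hp1'
      rw [h1, h2]
    · rw [Polynomial.coeff_eq_zero_of_natDegree_lt (by omega), Polynomial.coeff_eq_zero_of_natDegree_lt (by omega)]
  · rintro ⟨u, f⟩
    let g : ℕ → F := fun j => if h : 0 < j ∧ j < n then f ⟨j - 1, by omega⟩ else if j = 0 then (u : F) else 0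
    set r : F[X] := ∑ j ∈ Finset.range n, Polynomial.C (g j) * X ^ j with hr
    have hdeg : r.degree < n := (Polynomial.degree_sum_le _ _).trans_lt
      ((Finset.sup_lt_iff (WithBot.bot_lt_coe n)).2 fun j hj =>
        (Polynomial.degree_C_mul_X_pow_le j _).trans_lt (Nat.cast_lt.2 (Finset.mem_range.1 hj)))
    have hco : ∀ j, j < n → (X ^ n + r).coeff j = g j := by
      intro j hj
      rw [Polynomial.coeff_add, Polynomial.coeff_X_pow, if_neg hj.ne, zero_add, hr, Polynomial.finsetSum_coeff,
        Finset.sum_eq_single j (fun b _ hb => by rw [Polynomial.coeff_C_mul_X_pow, if_neg (Ne.symm hb)])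
          (fun h => absurd (Finset.mem_range.2 hj) h), Polynomial.coeff_C_mul_X_pow, if_pos rfl]
    have hmonic : (X ^ n + r).Monic := Polynomial.monic_X_pow_add hdeg
    have hnd : (X ^ n + r).natDegree = n := by
      refine Polynomial.natDegree_eq_of_degree_eq_some ?_
      rw [Polynomial.degree_add_eq_left_of_degree_lt (by rwa [Polynomial.degree_X_pow]), Polynomial.degree_X_pow]
    refine ⟨⟨X ^ n + r, hmonic, hnd, ?_⟩, Prod.ext (Units.ext ?_) (funext fun i => ?_)⟩
    · rw [hco 0 hn]; simp [g]
    · show (X ^ n + r).coeff 0 = (u : F)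
      rw [hco 0 hn]; simp [g]
    · show (X ^ n + r).coeff (i.val + 1) = f i
      rw [hco _ (by omega)]
      simp only [g]
      rw [dif_pos ⟨Nat.succ_pos _, by omega⟩]
      exact congrArg f (Fin.ext (Nat.add_sub_cancel i.val 1))

/-- Primitive elements give many monic irreducible polynomials. -/
theorem totient_div_le (n : ℕ) (hn : 2 ≤ n) :
    Nat.totient (Fintype.card F ^ n - 1) / n ≤ Nat.card (MonIrr F n) := by
  classical
  obtain ⟨p, hchar⟩ := CharP.exists F
  haveI := hchar
  haveI : Fact p.Prime := ⟨CharP.char_is_prime F p⟩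
  haveI : NeZero n := ⟨by omega⟩
  let K := FiniteField.Extension F p n
  haveI : Finite K := Module.finite_of_finite F
  letI := Fintype.ofFinite K
  have hK : Fintype.card K = Fintype.card F ^ n := by
    rw [← Nat.card_eq_fintype_card, ← Nat.card_eq_fintype_card, FiniteField.natCard_extension]
  haveI : Finite (MonPoly F n) := Nat.finite_of_card_ne_zero (by
    rw [card_monPoly F n (by omega)]
    have := Fintype.one_lt_card (α := F)
    exact (Nat.mul_pos (by omega) (pow_pos (by omega) _)).ne')
  haveI : Finite (MonIrr F n) := Finite.of_injective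
    (fun q : MonIrr F n => (⟨q.1, q.2.1, q.2.2.2.1, q.2.2.2.2⟩ : MonPoly F n)) fun a b h =>
      Subtype.ext (congrArg (fun z : MonPoly F n => z.1) h)
  letI := Fintype.ofFinite (MonIrr F n)
  set Z := Finset.univ.filter fun x : Kˣ => orderOf x = Fintype.card F ^ n - 1 with hZdef
  have hZ : Z.card = Nat.totient (Fintype.card F ^ n - 1) := by
    refine IsCyclic.card_orderOf_eq_totient ?_
    rw [Fintype.card_units, hK]
  have hdeg : ∀ x ∈ Z, (minpoly F (x : K)).natDegree = n := by
    intro x hx
    have hxo : orderOf x = Fintype.card F ^ n - 1 := (Finset.mem_filter.1 hx).2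
    have hint : IsIntegral F (x : K) := IsIntegral.of_finite F _
    have htop : IntermediateField.adjoin F {(x : K)} = ⊤ := by
      rw [eq_top_iff]
      intro y _
      rcases eq_or_ne y 0 with rfl | hy
      · exact zero_mem _
      · have hgen : Subgroup.zpowers x = ⊤ := by
          rw [← Subgroup.card_eq_iff_eq_top, Nat.card_zpowers, hxo, Nat.card_eq_fintype_card,
            Fintype.card_units, hK]
        obtain ⟨i, hi⟩ := Subgroup.mem_zpowers_iff.1 (show Units.mk0 y hy ∈ Subgroup.zpowers x by
          rw [hgen]; exact Subgroup.mem_top _)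
        have : y = (x : K) ^ i := by
          rw [← Units.val_zpow_eq_zpow_val, hi, Units.val_mk0]
        rw [this]
        exact zpow_mem (IntermediateField.mem_adjoin_simple_self F _) i
    rw [← IntermediateField.adjoin.finrank hint, htop, IntermediateField.finrank_top']
    exact FiniteField.finrank_extension F p n
  have hirr : ∀ x ∈ Z, (minpoly F (x : K)).Monic ∧ Irreducible (minpoly F (x : K)) ∧
      (minpoly F (x : K)).natDegree = n ∧ (minpoly F (x : K)).coeff 0 ≠ 0 := fun x hx =>
    ⟨minpoly.monic (IsIntegral.of_finite F _), minpoly.irreducible (IsIntegral.of_finite F _), hdeg x hx,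
      minpoly.coeff_zero_ne_zero (IsIntegral.of_finite F _) x.ne_zero⟩
  have hfib : ∀ q ∈ (Finset.univ : Finset (MonIrr F n)),
      (Z.filter fun x : Kˣ => minpoly F (x : K) = q.1).card ≤ n := by
    intro q _
    refine le_trans (Finset.card_le_card_of_injOn (fun x : Kˣ => (x : K)) (t := (q.1.map (algebraMap F K)).roots.toFinset)
      ?_ Units.val_injective.injOn) ?_
    · intro x hx
      have hx' := (Finset.mem_filter.1 hx).2
      rw [Finset.mem_coe, Multiset.mem_toFinset, Polynomial.mem_roots (Polynomial.map_ne_zero q.2.1.ne_zero),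
        Polynomial.IsRoot, Polynomial.eval_map, ← Polynomial.aeval_def, ← hx']
      exact minpoly.aeval F _
    · refine (Multiset.toFinset_card_le _).trans ((Polynomial.card_roots' _).trans ?_)
      rw [Polynomial.natDegree_map, q.2.2.2.1]
  have hle : Z.card ≤ n * Fintype.card (MonIrr F n) := by
    let f : Z → MonIrr F n := fun x => ⟨minpoly F (x.1 : K), hirr x.1 x.2⟩
    rw [← Fintype.card_coe]
    refine (Finset.card_le_mul_card_image (Finset.univ : Finset Z) n fun q _ => ?_).trans
      (Nat.mul_le_mul_left _ (Finset.card_le_univ (Finset.univ.image f)))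
    refine le_trans (Finset.card_le_card_of_injOn (fun x : Z => x.1) ?_ Subtype.val_injective.injOn)
      (hfib q (Finset.mem_univ q))
    intro x hx
    exact Finset.mem_coe.2 (Finset.mem_filter.2 ⟨x.2, congrArg Subtype.val (Finset.mem_filter.1 hx).2⟩)
  rw [← hZ, Nat.card_eq_fintype_card]
  exact Nat.div_le_of_le_mul hle

end H17.GLC
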