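import Cfsg.Agent.H17.GLCusp.Pairing
import Cfsg.Agent.H17.GLCusp.PolyCount

/-!
Generic characters correspond to multisets of cuspidal characters; the number of cuspidal characters.
-/

set_option autoImplicit false
set_option linter.unusedSectionVars false
set_option linter.style.haveILetI false

namespace H17.GLC

open Cfsg Finset
open scoped ComplexConjugate

theorem exists_equiv_of_map_eq {α β γ : Type*} [Fintype α] [Fintype β] (f : α → γ) (g : β → γ)
    (h : (Finset.univ : Finset α).val.map f = (Finset.univ : Finset β).val.map g) :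
    ∃ π : α ≃ β, ∀ a, g (π a) = f a := by
  classical
  have hc : ∀ c, Fintype.card {a // f a = c} = Fintype.card {b // g b = c} := by
    intro c
    have h' := congrArg (Multiset.count c) h
    rw [Multiset.count_map, Multiset.count_map] at h'
    rw [Fintype.card_subtype, Fintype.card_subtype]
    show (Multiset.filter _ _).card = (Multiset.filter _ _).card
    simpa [eq_comm] using h'
  exact ⟨Equiv.ofFiberEquiv fun c => Fintype.equivOfCardEq (hc c), fun a =>
    Equiv.ofFiberEquiv_map (f := f) (g := g) _ a⟩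

theorem map_eq_of_equiv {α β γ : Type*} [Fintype α] [Fintype β] (f : α → γ) (g : β → γ) (π : α ≃ β)
    (h : ∀ a, g (π a) = f a) : (Finset.univ : Finset α).val.map f = (Finset.univ : Finset β).val.map g := by
  classical
  rw [← Finset.map_univ_equiv π, Finset.map_val, Multiset.map_map]
  exact Multiset.map_congr rfl fun a _ => (h a).symm

variable {F : Type*} [Field F] [Fintype F] [DecidableEq F] {n : ℕ}

theorem isEmpty_cus_zero : IsEmpty (Cus F 0) := ⟨fun x => lt_irrefl 0 x.2.1⟩

namespace Datum

theorem blocks_weight (D : Datum F n) : (D.blocks.map Sigma.fst).sum = n := by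
  rw [Datum.blocks, Multiset.map_map]
  show ∑ a, Fintype.card {i // D.c i = a} = n
  rw [← Fintype.card_sigma, Fintype.card_congr (Equiv.sigmaFiberEquiv D.c), Fintype.card_fin]

theorem blocks_eq_iff (D E : Datum F n) :
    D.blocks = E.blocks ↔ ∃ π : Fin D.k ≃ Fin E.k, ∀ a, E.key (π a) = D.key a :=
  ⟨fun h => exists_equiv_of_map_eq D.key E.key h, fun ⟨π, h⟩ => map_eq_of_equiv D.key E.key π h⟩

theorem exists_of_list (l : List (Blk F)) (hl : (l.map Sigma.fst).sum = n) :
    ∃ D : Datum F n, D.blocks = (l : Multiset (Blk F)) := by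
  classical
  let d : Fin l.length → ℕ := fun a => (l[a.val]).1
  have hι : Fintype.card (Σ a, Fin (d a)) = n := by
    rw [Fintype.card_sigma, ← hl]
    simp only [Fintype.card_fin, d]
    rw [← List.sum_ofFn]
    congr 1
    exact List.ext_getElem (by simp) fun i h1 h2 => by simp
  let e : Fin n ≃ Σ a, Fin (d a) := (Fintype.equivFinOfCardEq hι).symm
  let c₀ : Fin n → Fin l.length := fun i => (e i).1
  let c : Fin n → Fin l.length := c₀ ∘ Tuple.sort c₀
  have hfib : ∀ a, Nonempty ({i // c i = a} ≃ Fin (d a)) := fun a =>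
    ⟨(((Tuple.sort c₀).trans e).subtypeEquiv (q := fun x => x.1 = a) fun _ => Iff.rfl).trans
      (Equiv.sigmaSubtype a)⟩
  let ef : ∀ a, {i // c i = a} ≃ Fin (d a) := fun a => (hfib a).some
  let D : Datum F n :=
    { k := l.length
      c := c
      mono := Tuple.monotone_sort c₀
      surj := fun a => ⟨((ef a).symm ⟨0, (l[a.val]).2.2.1⟩).1, ((ef a).symm ⟨0, (l[a.val]).2.2.1⟩).2⟩
      sig := fun a => trIrr (ef a) (l[a.val]).2.1
      cusp := fun a => ((l[a.val]).2.2.2).comp_reGL _ }
  refine ⟨D, ?_⟩
  have hkey : ∀ a : Fin D.k, D.key a = l[a.val]'a.2 := by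
    intro a
    haveI : Nonempty (Fin (d a)) := ⟨⟨0, (l[a.val]).2.2.1⟩⟩
    refine ((mkBlk_eq_iff (ψ := (l[a.val]).2.1) (D.cusp a) (l[a.val]).2.2.2 (ef a)).2 rfl).trans ?_
    have key : ∀ (z : Blk F) [Nonempty (Fin z.1)], mkBlk z.2.1 z.2.2.2 = z := by
      rintro ⟨k, χ, hk, hc⟩ _
      have hcast : ∀ (m : ℕ) (e : Fin k ≃ Fin m) (p : 0 < m ∧ Cusp (trIrr e.symm χ : GL (Fin m) F → ℂ)),
          m = k → (⟨m, trIrr e.symm χ, p⟩ : Blk F) = ⟨k, χ, hk, hc⟩ := by
        rintro m e p rfl
        refine congrArg (Sigma.mk m) (Subtype.ext ?_)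
        show trIrr e.symm χ = χ
        rw [trIrr_eq e.symm (Equiv.refl _), trIrr_refl]
      exact hcast _ (Fintype.equivFin (Fin k)) _ (Fintype.card_fin k)
    exact key _
  rw [Datum.blocks, Fin.univ_val_map]
  exact congrArg Multiset.ofList (List.ext_getElem (by simp [D]) fun i h1 h2 => by
    rw [List.getElem_ofFn]; exact hkey ⟨i, _⟩)

theorem exists_of_blocks (m : MSW (Cus F) n) : ∃ D : Datum F n, D.blocks = m.1 := by
  obtain ⟨D, hD⟩ := exists_of_list (n := n) m.1.toList (by
    rw [← Multiset.sum_coe, ← Multiset.map_coe, Multiset.coe_toList]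
    exact m.2)
  exact ⟨D, hD.trans m.1.coe_toList⟩

theorem ind_eq_of_blocks {D E : Datum F n} (h : D.blocks = E.blocks) : D.ind = E.ind := by
  classical
  obtain ⟨π₀, hπ⟩ := (blocks_eq_iff D E).1 h
  have h1 : classInner D.ind E.ind = classInner D.ind D.ind := by
    rw [inner_ind, inner_ind]
    congr 1
    refine Finset.card_equiv (Equiv.equivCongr (Equiv.refl _) π₀.symm) fun π => ?_
    simp only [Finset.mem_filter, Finset.mem_univ, true_and, Equiv.equivCongr_apply_apply, Equiv.refl_symm,
      Equiv.refl_apply]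
    refine forall_congr' fun a => ?_
    rw [← hπ (π₀.symm (π a)), Equiv.apply_symm_apply]
  have h2 : classInner E.ind E.ind = classInner D.ind D.ind := by
    rw [inner_ind, inner_ind]
    congr 1
    refine Finset.card_equiv (Equiv.equivCongr π₀.symm π₀.symm) fun π => ?_
    simp only [Finset.mem_filter, Finset.mem_univ, true_and, Equiv.equivCongr_apply_apply, Equiv.symm_symm]
    constructor
    · intro hh a
      rw [← hπ (π₀.symm (π (π₀ a))), Equiv.apply_symm_apply, hh, hπ]
    · intro hh a
      obtain ⟨b, rfl⟩ := π₀.surjective a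
      rw [hπ, ← hh b, ← hπ (π₀.symm _), Equiv.apply_symm_apply]
  have h3 : classInner E.ind D.ind = classInner D.ind D.ind := by
    rw [← H12.conj_classInner, h1, H12.conj_classInner]
  refine sub_eq_zero.1 ((H12.classInner_self_eq_zero_iff).1 ?_)
  rw [H12.classInner_sub_left, H12.classInner_sub_right, H12.classInner_sub_right, h1, h2, h3]
  ring

end Datum

/-- The generic irreducible characters. -/
abbrev Gen (η : AddChar F ℂ) (n : ℕ) : Type _ :=
  {χ : IrrCharacter (GL (Fin n) F) // gen η (χ : GL (Fin n) F → ℂ) ≠ 0}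

theorem existsUnique_constituent {η : AddChar F ℂ} (hη : η ≠ 1) (D : Datum F n) :
    ∃ χ : Gen η n, classInner D.ind (χ.1 : GL (Fin n) F → ℂ) ≠ 0 ∧
      ∀ χ' : Gen η n, classInner D.ind (χ'.1 : GL (Fin n) F → ℂ) ≠ 0 → χ' = χ := by
  classical
  have hg : ∀ χ : IrrCharacter (GL (Fin n) F), ∃ a : ℕ,
      gen η (χ : GL (Fin n) F → ℂ) * conj (classInner D.ind (χ : GL (Fin n) F → ℂ)) = a ∧
        (a ≠ 0 ↔ gen η (χ : GL (Fin n) F → ℂ) ≠ 0 ∧ classInner D.ind (χ : GL (Fin n) F → ℂ) ≠ 0) := by
    intro χ
    obtain ⟨m, hm⟩ := H12.IsCharacter.classInner_nat D.isCharacter_ind (H12.isCharacter_irr χ)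
    rcases gen_zero_or_one hη χ.2 with h | h
    · exact ⟨0, by rw [h, zero_mul, Nat.cast_zero], by simp [h]⟩
    · refine ⟨m, by rw [h, hm, one_mul, map_natCast], ?_⟩
      rw [h, hm, Nat.cast_ne_zero]
      simp
  choose a ha hiff using hg
  have hsum : ∑ χ, a χ = 1 := by
    have h := inner_gamma hη D
    rw [H12.classFunction_eq_sum (H12.IsCharacter.isClassFunction (isCharacter_gamma η))] at h
    simp only [classInner_gamma hη, H12.classInner_sum_left, H12.classInner_smul_left] at h
    have e : ∀ χ : IrrCharacter (GL (Fin n) F),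
        gen η (χ : GL (Fin n) F → ℂ) * classInner (χ : GL (Fin n) F → ℂ) D.ind = a χ := fun χ => by
      rw [← ha, H12.conj_classInner]
    simp only [e] at h
    exact_mod_cast h
  obtain ⟨χ, -, hχ⟩ := Finset.exists_ne_zero_of_sum_ne_zero (s := Finset.univ) (f := a) (by omega)
  refine ⟨⟨χ, ((hiff χ).1 hχ).1⟩, ((hiff χ).1 hχ).2, fun χ' h' => Subtype.ext ?_⟩
  by_contra hne0
  have hne : χ'.1 ≠ χ := hne0
  have h2 : a χ'.1 ≠ 0 := (hiff _).2 ⟨χ'.2, h'⟩
  have h3 := Finset.sum_le_sum_of_subset (f := a) (Finset.subset_univ ({χ'.1, χ} : Finset _))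
  rw [Finset.sum_pair hne, hsum] at h3
  omega

theorem exists_datum_of_irr (hn : 0 < n) (χ : IrrCharacter (GL (Fin n) F)) :
    ∃ D : Datum F n, classInner D.ind (χ : GL (Fin n) F → ℂ) ≠ 0 := by
  classical
  -- labellings whose radical has fixed vectors
  let S : ℕ → Prop := fun k => ∃ c : Fin n → Fin k, Function.Surjective c ∧
    (∑ g : GL (Fin n) F, if g ∈ rad c then (χ : GL (Fin n) F → ℂ) g else 0) ≠ 0
  have hS1 : S 1 := by
    refine ⟨fun _ => 0, fun z => ⟨⟨0, hn⟩, Subsingleton.elim _ _⟩, ?_⟩
    have hbot : ∀ g : GL (Fin n) F, g ∈ rad (fun _ : Fin n => (0 : Fin 1)) ↔ g = 1 := fun g =>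
      ⟨fun h => Units.ext (Matrix.ext fun i j => (mem_rad.1 h).2 i j rfl), fun h => h ▸ one_mem _⟩
    simp only [hbot, Finset.sum_ite_eq', Finset.mem_univ, if_true]
    exact H12.irr_apply_one_ne_zero χ
  set k := Nat.findGreatest S n with hk
  have hSk : S k := Nat.findGreatest_spec (show 1 ≤ n by omega) hS1
  have hmax : ∀ (c : Fin n → Fin (k + 1)), Function.Surjective c →
      (∑ g : GL (Fin n) F, if g ∈ rad c then (χ : GL (Fin n) F → ℂ) g else 0) = 0 := by
    intro c hc
    by_contra hne
    have hle : k + 1 ≤ n := by simpa using Fintype.card_le_of_surjective c hc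
    have := Nat.le_findGreatest hle (show S (k + 1) from ⟨c, hc, hne⟩)
    omega
  obtain ⟨c₀, hc₀, hne₀⟩ := hSk
  let w := Tuple.sort c₀
  set c : Fin n → Fin k := c₀ ∘ w with hc
  have hne : (∑ g : GL (Fin n) F, if g ∈ rad c then (χ : GL (Fin n) F → ℂ) g else 0) ≠ 0 := by
    refine fun h => hne₀ ((Fintype.sum_equiv (reGL w.symm).toEquiv _
      (fun g => if g ∈ rad c then (χ : GL (Fin n) F → ℂ) g else 0) fun g => ?_).trans h)
    show _ = if reGL w.symm g ∈ rad c then (χ : GL (Fin n) F → ℂ) (reGL w.symm g) else 0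
    have hiff : reGL w.symm g ∈ rad c ↔ g ∈ rad c₀ := by
      rw [reGL_mem_rad, hc, Function.comp_assoc, Equiv.self_comp_symm, Function.comp_id]
    have hval : (χ : GL (Fin n) F → ℂ) (reGL w.symm g) = (χ : GL (Fin n) F → ℂ) g :=
      (classFun_reGL (H12.irr_isClassFunction χ) (Equiv.refl _) w.symm g)
    simp only [hiff, hval]
  haveI := Fintype.ofFinite (par (F := F) c)
  haveI := Fintype.ofFinite (rad (F := F) c)
  -- a constituent on the Levi quotient
  obtain ⟨φ, hφ⟩ : ∃ φ : IrrCharacter (∀ a, GL {i // c i = a} F),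
      classInner (fun g : par (F := F) c => (χ : GL (Fin n) F → ℂ) g) ((φ : (∀ a, GL {i // c i = a} F) → ℂ) ∘ proj c) ≠ 0 := by
    by_contra hcon
    push Not at hcon
    let f : (∀ a, GL {i // c i = a} F) → ℂ := fun x =>
      ∑ g : par (F := F) c, if proj c g = x then (χ : GL (Fin n) F → ℂ) g else 0
    have hf : IsClassFunction _ f := by
      intro x y
      obtain ⟨b, rfl⟩ := proj_surjective c y
      refine (Fintype.sum_equiv (MulAut.conj b).toEquiv _ _ fun g => ?_).symm
      show (if proj c g = x then _ else 0) = if proj c (b * g * b⁻¹) = proj c b * x * (proj c b)⁻¹ then _ else 0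
      have hiff : proj c (b * g * b⁻¹) = proj c b * x * (proj c b)⁻¹ ↔ proj c g = x := by simp
      simp only [hiff]
      refine if_congr Iff.rfl ?_ rfl
      show (χ : GL (Fin n) F → ℂ) g = (χ : GL (Fin n) F → ℂ) ((b : GL (Fin n) F) * g * (b : GL (Fin n) F)⁻¹)
      exact (H12.irr_isClassFunction χ _ _).symm
    have hz : f = 0 := by
      refine H12.eq_zero_of_classInner_irr_eq_zero hf fun φ => ?_
      have h := hcon φ
      rw [H12.classInner_def, mul_eq_zero] at h
      have h0 := h.resolve_left (inv_ne_zero H12.card_ne_zero')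
      rw [H12.classInner_def]
      convert mul_zero _ using 2
      rw [← h0]
      simp only [f, Finset.sum_mul, ite_mul, zero_mul]
      rw [Finset.sum_comm]
      refine Finset.sum_congr rfl fun g _ => ?_
      rw [Finset.sum_ite_eq, if_pos (Finset.mem_univ _)]
      rfl
    refine hne (Eq.trans ?_ (congrFun hz 1))
    show _ = ∑ g : par (F := F) c, if proj c g = 1 then (χ : GL (Fin n) F → ℂ) g else 0
    refine Eq.trans ?_ ((sum_ite_subgroup (par c)
      (fun g => if g ∈ rad c then (χ : GL (Fin n) F → ℂ) g else 0)).trans (Finset.sum_congr rfl fun g _ => ?_))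
    · refine Finset.sum_congr rfl fun g _ => ?_
      by_cases hg : g ∈ par c
      · rw [if_pos hg]
      · rw [if_neg hg, if_neg fun h => hg (rad_le_par c h)]
    · refine if_congr ?_ rfl rfl
      constructor
      · rintro ⟨r, hr, he⟩
        rw [← Subtype.ext he]
        exact hr
      · exact fun h => ⟨g, h, rfl⟩
  obtain ⟨σ, hσ⟩ := exists_eq_pi φ.2
  have hθ : (φ : (∀ a, GL {i // c i = a} F) → ℂ) ∘ proj c = infl c fun a => (σ a : GL {i // c i = a} F → ℂ) := by
    funext g
    exact congrFun hσ (proj c g)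
  rw [hθ] at hφ
  have hcusp : ∀ a, Cusp (σ a : GL {i // c i = a} F → ℂ) := by
    intro a c2 hc2
    let val : Fin n → ℕ := fun i => if h : c i = a then a.val + (c2 ⟨i, h⟩).val else
      if c i < a then (c i).val else (c i).val + 1
    have hval : ∀ i, val i < k + 1 := by
      intro i
      simp only [val]
      have := (c i).2; have := a.2
      split_ifs with h h'
      · have := (c2 ⟨i, h⟩).2; omega
      · omega
      · omega
    let cp : Fin n → Fin (k + 1) := fun i => ⟨val i, hval i⟩
    have hcs : Function.Surjective cp := by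
      have hcs' : Function.Surjective c := hc₀.comp w.surjective
      intro z
      by_cases hz1 : z.val < a.val
      · obtain ⟨i, hi⟩ := hcs' ⟨z.val, by omega⟩
        refine ⟨i, Fin.ext ?_⟩
        simp only [cp, val]
        rw [dif_neg (fun h => by rw [hi] at h; exact absurd (congrArg Fin.val h) (by simp; omega)),
          if_pos (by rw [hi]; exact hz1), hi]
      by_cases hz2 : z.val ≤ a.val + 1
      · obtain ⟨⟨i, hi⟩, hi2⟩ := hc2 ⟨z.val - a.val, by omega⟩
        refine ⟨i, Fin.ext ?_⟩
        simp only [cp, val]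
        rw [dif_pos hi, hi2]
        simp; omega
      · obtain ⟨i, hi⟩ := hcs' ⟨z.val - 1, by omega⟩
        refine ⟨i, Fin.ext ?_⟩
        simp only [cp, val]
        rw [dif_neg (fun h => by rw [hi] at h; exact absurd (congrArg Fin.val h) (by simp; omega)),
          if_neg (by rw [hi, Fin.lt_def]; simp; omega), hi]
        simp; omega
    have hmono : ∀ i j, c j < c i → val j < val i := by
      intro i j hij
      have hij' := Fin.lt_def.1 hij
      simp only [val]
      split_ifs with h1 h2 h3 h4 h5 h6 <;>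
        simp only [Fin.lt_def, Fin.ext_iff] at * <;>
        first
          | omega
          | (have := (c2 ⟨i, by assumption⟩).2; omega)
          | (have := (c2 ⟨j, by assumption⟩).2; omega)
    have heqv : ∀ i j, val i = val j → c i = c j := by
      intro i j hij
      rcases lt_trichotomy (c i) (c j) with h | h | h
      · exact absurd hij (hmono j i h).ne
      · exact h
      · exact absurd hij (hmono i j h).ne'
    have hVP : rad (F := F) cp ≤ par c := by
      intro g hg
      exact mem_par.2 fun i j hij => (mem_rad.1 hg).1 i j (Fin.lt_def.2 (hmono i j hij))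
    haveI := Fintype.ofFinite (rad (F := F) cp)
    have h0 := constituent_sum_eq_zero (H12.isCharacter_irr χ) (par c) (isIrr_infl c σ) hφ (rad cp) hVP
      (by rw [← sum_ite_subgroup]; exact hmax cp hcs)
    -- the block map onto the radical of `c2`
    have hblk : ∀ g : rad (F := F) cp, ∀ b, b ≠ a → proj c ⟨g.1, hVP g.2⟩ b = 1 := by
      intro g b hb
      refine Units.ext (Matrix.ext fun i j => ?_)
      rw [proj_apply, (mem_rad.1 g.2).2 i.1 j.1 (Fin.ext ?_)]
      · simp [Matrix.one_apply, Subtype.ext_iff]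
      · show val i.1 = val j.1
        simp only [val, dif_neg (show ¬ c i.1 = a from fun h => hb (i.2.symm.trans h)),
          dif_neg (show ¬ c j.1 = a from fun h => hb (j.2.symm.trans h)), i.2, j.2]
    have hblka : ∀ g : rad (F := F) cp, proj c ⟨g.1, hVP g.2⟩ a ∈ rad c2 := by
      intro g
      refine mem_rad.2 ⟨fun i j hij => ?_, fun i j hij => ?_⟩
      · rw [proj_apply]
        refine (mem_rad.1 g.2).1 i.1 j.1 (Fin.lt_def.2 ?_)
        show val j.1 < val i.1
        simp only [val, dif_pos i.2, dif_pos j.2]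
        exact Nat.add_lt_add_left (Fin.lt_def.1 hij) _
      · rw [proj_apply, (mem_rad.1 g.2).2 i.1 j.1 (Fin.ext ?_)]
        · simp [Matrix.one_apply, Subtype.ext_iff]
        · show val i.1 = val j.1
          simp only [val, dif_pos i.2, dif_pos j.2, Subtype.coe_eta, hij]
    let q : rad (F := F) cp →* rad (F := F) c2 :=
      { toFun := fun g => ⟨proj c ⟨g.1, hVP g.2⟩ a, hblka g⟩
        map_one' := Subtype.ext (congrFun (map_one (proj c)) a)
        map_mul' := fun g h => Subtype.ext (congrFun (map_mul (proj c) ⟨g.1, hVP g.2⟩ ⟨h.1, hVP h.2⟩) a) }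
    have hq : Function.Surjective q := by
      intro v
      have hin : incl c (Pi.mulSingle a (v : GL {i // c i = a} F)) ∈ rad cp := by
        obtain ⟨v1, v2⟩ := mem_rad.1 v.2
        refine mem_rad.2 ⟨fun i j hij => ?_, fun i j hij => ?_⟩
        · rw [incl_apply]
          split_ifs with h
          · rcases eq_or_ne (c i) a with hi | hi
            · subst hi
              rw [Pi.mulSingle_eq_same]
              refine v1 _ _ ?_
              have hlt : val j < val i := hij
              simp only [val, dif_pos h, dif_pos rfl] at hlt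
              exact Fin.lt_def.2 (by omega)
            · exfalso
              have hlt : val j < val i := hij
              simp only [val, dif_neg hi, dif_neg (show ¬ c j = a from fun e => hi (h.symm.trans e)), h] at hlt
              exact lt_irrefl _ hlt
          · rfl
        · have hcij : c i = c j := heqv i j (congrArg Fin.val hij)
          rw [incl_apply, dif_pos hcij.symm]
          rcases eq_or_ne (c i) a with hi | hi
          · subst hi
            have hvv : val i = val j := congrArg Fin.val hij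
            simp only [val, dif_pos hcij.symm, dif_pos rfl] at hvv
            rw [Pi.mulSingle_eq_same, v2 _ _ (Fin.ext (by simpa using hvv))]
            simp [Matrix.one_apply]
          · rw [Pi.mulSingle_eq_of_ne hi]
            simp [Matrix.one_apply]
      refine ⟨⟨_, hin⟩, Subtype.ext ?_⟩
      exact (congrFun (proj_incl c _) a).trans (Pi.mulSingle_eq_same a _)
    have hrest : (∏ b ∈ Finset.univ.erase a, (σ b : GL {i // c i = b} F → ℂ) 1) ≠ 0 :=
      Finset.prod_ne_zero_iff.2 fun b _ => H12.irr_apply_one_ne_zero _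
    have e : ∀ g : rad (F := F) cp, infl c (fun b => (σ b : GL {i // c i = b} F → ℂ)) ⟨g.1, hVP g.2⟩ =
        (σ a : GL {i // c i = a} F → ℂ) (q g) * ∏ b ∈ Finset.univ.erase a, (σ b : GL {i // c i = b} F → ℂ) 1 := by
      intro g
      rw [infl, ← Finset.mul_prod_erase _ _ (Finset.mem_univ a)]
      congr 1
      exact Finset.prod_congr rfl fun b hb => by rw [hblk g b (Finset.ne_of_mem_erase hb)]
    simp only [e, ← Finset.sum_mul] at h0
    have h1 := (mul_eq_zero.1 h0).resolve_right hrest
    haveI := Fintype.ofFinite (rad (F := F) c2)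
    have h2 := sum_comp_hom q hq (fun v => (σ a : GL {i // c i = a} F → ℂ) v)
    rw [h1, mul_zero, eq_comm, mul_eq_zero] at h2
    rw [sum_ite_subgroup]
    exact h2.resolve_left (Nat.cast_ne_zero.2 Fintype.card_ne_zero)
  refine ⟨⟨k, c, Tuple.monotone_sort c₀, hc₀.comp w.surjective, σ, hcusp⟩, ?_⟩
  rw [← H12.conj_classInner]
  refine fun h => hφ ?_
  rw [Datum.ind, H13.classInner_indFun_right (par c) _ (H12.irr_isClassFunction χ)] at h
  have h' := congrArg conj h
  rw [Complex.conj_conj, map_zero] at h'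
  exact h'

/-- Generic characters correspond to multisets of cuspidal characters. -/
theorem exists_classification {η : AddChar F ℂ} (hη : η ≠ 1) (hn : 0 < n) :
    Nonempty (MSW (Cus F) n ≃ Gen η n) := by
  classical
  choose Φ hΦ hΦu using fun D : Datum F n => existsUnique_constituent hη D
  choose dat hdat using fun m : MSW (Cus F) n => Datum.exists_of_blocks m
  have hwell : ∀ D E : Datum F n, D.blocks = E.blocks → Φ D = Φ E := fun D E h =>
    hΦu E (Φ D) (Datum.ind_eq_of_blocks h ▸ hΦ D)
  refine ⟨Equiv.ofBijective (fun m => Φ (dat m)) ⟨?_, ?_⟩⟩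
  · intro m m' h
    have h' : Φ (dat m) = Φ (dat m') := h
    set D := dat m
    set E := dat m'
    have hne : classInner D.ind E.ind ≠ 0 := by
      obtain ⟨u, hu⟩ := H12.IsCharacter.exists_mult D.isCharacter_ind
      obtain ⟨v, hv⟩ := H12.IsCharacter.exists_mult E.isCharacter_ind
      have h1 := hΦ D
      have h2 := hΦ E
      rw [hu, H12.classInner_sum_smul_irr (fun χ => (u χ : ℂ))] at h1
      rw [hv, H12.classInner_sum_smul_irr (fun χ => (v χ : ℂ))] at h2
      rw [hu, hv, H12.classInner_sum_smul_sum_smul]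
      simp only [map_natCast, ← Nat.cast_mul, ← Nat.cast_sum]
      rw [Nat.cast_ne_zero]
      intro h0
      have := Finset.sum_eq_zero_iff.1 h0 (Φ E).1 (Finset.mem_univ _)
      rw [h'] at h1
      rcases mul_eq_zero.1 this with e | e
      · exact h1 (by simp [e])
      · exact h2 (by simp [e])
    rw [inner_ind, Nat.cast_ne_zero, ← Nat.pos_iff_ne_zero, Finset.card_pos] at hne
    obtain ⟨π, hπ⟩ := hne
    refine Subtype.ext ?_
    rw [← hdat m, ← hdat m']
    exact (Datum.blocks_eq_iff D E).2 ⟨π, (Finset.mem_filter.1 hπ).2⟩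
  · intro χ
    obtain ⟨D, hD⟩ := exists_datum_of_irr hn χ.1
    refine ⟨⟨D.blocks, D.blocks_weight⟩, ?_⟩
    show Φ (dat ⟨D.blocks, D.blocks_weight⟩) = χ
    rw [hwell _ D (hdat ⟨D.blocks, D.blocks_weight⟩)]
    exact (hΦu D χ hD).symm

/-- There are as many cuspidal characters as monic irreducible polynomials other than `X`. -/
theorem card_cus (d : ℕ) : Nat.card (Cus F d) = Nat.card (MonIrr F d) := by
  classical
  obtain ⟨η, hη⟩ := exists_addChar_ne_one (F := F)
  have hne : ∀ m : ℕ, (Fintype.card F - 1) * Fintype.card F ^ (m - 1) ≠ 0 := fun m => by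
    have := Fintype.one_lt_card (α := F)
    exact (Nat.mul_pos (by omega) (pow_pos (by omega) _)).ne'
  refine card_eq_of_msw isEmpty_cus_zero (monIrr_zero F) ?_ ?_ ?_ d
  · intro m hm
    obtain ⟨e⟩ := exists_classification (n := m) hη hm
    haveI : Finite (Gen η m) := Nat.finite_of_card_ne_zero (by rw [card_generic hη hm]; exact hne m)
    exact Finite.of_equiv _ e.symm
  · intro m hm
    obtain ⟨e⟩ := exists_factor_equiv F m
    haveI : Finite (MonPoly F m) := Nat.finite_of_card_ne_zero (by rw [card_monPoly F m hm]; exact hne m)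
    exact Finite.of_equiv _ e.symm
  · intro m hm
    obtain ⟨e⟩ := exists_classification (n := m) hη hm
    obtain ⟨e'⟩ := exists_factor_equiv F m
    rw [Nat.card_congr e, Nat.card_congr e', card_generic hη hm, card_monPoly F m hm]

/-- The lower bound for the number of cuspidal characters of the generic degree. -/
theorem count_cuspidal (hn : 2 ≤ n) :
    Nat.totient (Fintype.card F ^ n - 1) / n ≤ Nat.card (Cus F n) := by
  rw [card_cus]
  exact totient_div_le F n hn

theorem cus_degree (χ : Cus F n) :
    (χ.1 : GL (Fin n) F → ℂ) 1 = ∏ i ∈ Finset.Ico 1 n, ((Fintype.card F : ℂ) ^ i - 1) := by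
  obtain ⟨η, hη⟩ := exists_addChar_ne_one (F := F)
  rw [cusp_degree hη (H12.isCharacter_irr χ.1) χ.2.2 χ.2.1, gen_cusp hη χ.2.1 χ.1 χ.2.2, one_mul]

theorem mem_rad_lab2 {m : ℕ} (g : GL (Fin n) F) :
    g ∈ rad (lab2 (n := n) m) ↔ ∀ i j : Fin n, ¬ (i.val < m ∧ m ≤ j.val) →
      (g : Matrix (Fin n) (Fin n) F) i j = (1 : Matrix (Fin n) (Fin n) F) i j := by
  rw [mem_rad]
  constructor
  · rintro ⟨h1, h2⟩ i j hij
    by_cases h : lab2 m i = lab2 m j
    · exact h2 i j h
    · rw [Matrix.one_apply_ne fun e => h (by rw [e])]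
      refine h1 i j ?_
      unfold lab2 at h ⊢
      by_cases a : i.val < m
      · by_cases b : j.val < m
        · simp [a, b] at h
        · exact absurd ⟨a, not_lt.1 b⟩ hij
      · by_cases b : j.val < m
        · simp [a, b]
        · simp [a, b] at h
  · intro h
    refine ⟨fun i j hij => ?_, fun i j hij => h i j ?_⟩
    · rw [h i j ?_, Matrix.one_apply_ne fun e => hij.ne (by rw [e])]
      rintro ⟨a, b⟩
      unfold lab2 at hij
      simp [a, not_lt.2 b] at hij
    · rintro ⟨a, b⟩
      unfold lab2 at hij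
      simp [a, not_lt.2 b] at hij

end H17.GLC
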