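import Mathlib

/-!
Permutations that increase by one at each ascent: segments and their arrangement.
-/

set_option autoImplicit false

namespace H17.GLC.Seg

variable {n : ℕ} (A : ℕ → Prop)

open Classical in
/-- The first index of the segment of `k`. -/
noncomputable def st (k : ℕ) : ℕ :=
  Nat.find (p := fun j => j ≤ k ∧ ∀ m, j ≤ m → m < k → A m) ⟨k, le_rfl, fun m h1 h2 => absurd h2 (not_lt.2 h1)⟩

open Classical in
/-- One more than the last index of the segment of `k`. -/
noncomputable def en (k : ℕ) : ℕ :=
  if h : ∃ e, k < e ∧ ¬ A (e - 1) then Nat.find h else 0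

variable {A}

theorem st_spec (k : ℕ) : st A k ≤ k ∧ ∀ m, st A k ≤ m → m < k → A m := by
  classical
  exact Nat.find_spec (p := fun j => j ≤ k ∧ ∀ m, j ≤ m → m < k → A m) _

theorem st_prev {k : ℕ} (h : 0 < st A k) : ¬ A (st A k - 1) := by
  classical
  intro hA
  obtain ⟨h1, h2⟩ := st_spec (A := A) k
  have : st A k ≤ st A k - 1 := Nat.find_min' (p := fun j => j ≤ k ∧ ∀ m, j ≤ m → m < k → A m) _
    ⟨by omega, fun m hm hm' => by
      rcases Nat.lt_or_ge m (st A k) with h' | h'
      · rwa [show m = st A k - 1 by omega]
      · exact h2 m h' hm'⟩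
  omega

section Bounded

variable (hA : ∀ m, A m → m + 1 < n)
include hA

theorem en_spec {k : ℕ} (hk : k < n) :
    k < en A k ∧ en A k ≤ n ∧ ¬ A (en A k - 1) ∧ ∀ m, k ≤ m → m + 1 < en A k → A m := by
  classical
  have hex : ∃ e, k < e ∧ ¬ A (e - 1) := ⟨n, hk, fun h => by have := hA _ h; omega⟩
  have e : en A k = Nat.find hex := dif_pos hex
  rw [e]
  refine ⟨(Nat.find_spec hex).1, Nat.find_min' hex ⟨hk, fun h => by have := hA _ h; omega⟩,
    (Nat.find_spec hex).2, fun m h1 h2 => ?_⟩
  by_contra hm
  exact Nat.find_min hex h2 ⟨by omega, by simpa using hm⟩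

theorem same_segment {k k' : ℕ} (hk : k < n) (h1 : st A k ≤ k') (h2 : k' < en A k) :
    st A k' = st A k ∧ en A k' = en A k := by
  classical
  obtain ⟨s1, s2⟩ := st_spec (A := A) k
  obtain ⟨e1, e2, e3, e4⟩ := en_spec hA hk
  have hin : ∀ m, st A k ≤ m → m + 1 < en A k → A m := fun m a b =>
    (lt_or_ge m k).elim (fun h => s2 m a h) fun h => e4 m h b
  have hk' : k' < n := by omega
  obtain ⟨s1', s2'⟩ := st_spec (A := A) k'
  obtain ⟨e1', e2', e3', e4'⟩ := en_spec hA hk'
  constructor
  · rcases lt_trichotomy (st A k') (st A k) with h | h | h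
    · exact absurd (s2' (st A k - 1) (by omega) (by omega)) (st_prev (by omega))
    · exact h
    · exact absurd (hin (st A k' - 1) (by omega) (by omega)) (st_prev (by omega))
  · rcases lt_trichotomy (en A k') (en A k) with h | h | h
    · exact absurd (hin (en A k' - 1) (by omega) (by omega)) e3'
    · exact h
    · exact absurd (e4' (en A k - 1) (by omega) (by omega)) e3

/-- The position of `k` in the reversed arrangement of the segments. -/
theorem val_lt {k : ℕ} (hk : k < n) : n - en A k + (k - st A k) < n := by
  obtain ⟨s1, -⟩ := st_spec (A := A) k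
  obtain ⟨e1, e2, -, -⟩ := en_spec hA hk
  omega

theorem val_lt_of_diff {a b : ℕ} (hab : a < b) (hb : b < n) (h : en A a ≤ b) :
    n - en A b + (b - st A b) < n - en A a + (a - st A a) := by
  obtain ⟨e1, e2, e3, e4⟩ := en_spec hA (show a < n by omega)
  obtain ⟨s1, s2⟩ := st_spec (A := A) b
  obtain ⟨e1', e2', -, -⟩ := en_spec hA hb
  have : en A a ≤ st A b := by
    by_contra hlt
    exact e3 (s2 (en A a - 1) (by omega) (by omega))
  omega

theorem eq_of_val_eq {a b : ℕ} (ha : a < n) (hb : b < n)
    (h : n - en A a + (a - st A a) = n - en A b + (b - st A b)) : a = b := by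
  rcases lt_trichotomy a b with h' | h' | h'
  · rcases le_or_gt (en A a) b with h'' | h''
    · exact absurd h (val_lt_of_diff hA h' hb h'').ne'
    · obtain ⟨e1, e2⟩ := same_segment hA ha (by have := (st_spec (A := A) a).1; omega) h''
      have := (st_spec (A := A) a).1
      omega
  · exact h'
  · rcases le_or_gt (en A b) a with h'' | h''
    · exact absurd h (val_lt_of_diff hA h' ha h'').ne
    · obtain ⟨e1, e2⟩ := same_segment hA hb (by have := (st_spec (A := A) b).1; omega) h''
      have := (st_spec (A := A) b).1
      omega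

theorem step_ascent {m : ℕ} (hm : A m) :
    n - en A (m + 1) + (m + 1 - st A (m + 1)) = n - en A m + (m - st A m) + 1 := by
  have hm1 := hA m hm
  obtain ⟨e1, e2, e3, -⟩ := en_spec hA (show m < n by omega)
  have h : m + 1 < en A m := by
    by_contra h'
    exact e3 (by rwa [show en A m - 1 = m by omega])
  obtain ⟨f1, f2⟩ := same_segment hA (show m < n by omega) (by have := (st_spec (A := A) m).1; omega) h
  have := (st_spec (A := A) m).1
  omega

theorem step_descent {m : ℕ} (hm : ¬ A m) (hm1 : m + 1 < n) :
    n - en A (m + 1) + (m + 1 - st A (m + 1)) < n - en A m + (m - st A m) := by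
  refine val_lt_of_diff hA (Nat.lt_succ_self m) hm1 ?_
  obtain ⟨e1, e2, e3, e4⟩ := en_spec hA (show m < n by omega)
  by_contra h
  exact hm (e4 m le_rfl (by omega))

end Bounded

/-- The permutation reversing the order of the segments. -/
noncomputable def perm (hA : ∀ m, A m → m + 1 < n) : Equiv.Perm (Fin n) :=
  Equiv.ofBijective (fun k : Fin n => (⟨n - en A k.val + (k.val - st A k.val), val_lt hA k.2⟩ : Fin n))
    (Finite.injective_iff_bijective.1 fun a b h =>
      Fin.ext (eq_of_val_eq hA a.2 b.2 (congrArg Fin.val h)))

theorem perm_val (hA : ∀ m, A m → m + 1 < n) (k : Fin n) :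
    (perm hA k).val = n - en A k.val + (k.val - st A k.val) := rfl

/-- A permutation rising by one at each ascent reverses the order of its segments. -/
theorem perm_unique (σ : Equiv.Perm (Fin n)) (hA : ∀ m, A m → m + 1 < n)
    (hup : ∀ i j : Fin n, j.val = i.val + 1 → A i.val → (σ j).val = (σ i).val + 1)
    (hdown : ∀ i j : Fin n, j.val = i.val + 1 → ¬ A i.val → σ j < σ i) : σ = perm hA := by
  classical
  refine Equiv.ext fun k => Fin.ext ?_
  rw [perm_val]
  obtain ⟨s1, s2⟩ := st_spec (A := A) k.val
  obtain ⟨e1, e2, e3, e4⟩ := en_spec hA k.2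
  set s := st A k.val with hs
  set e := en A k.val with he
  have hin : ∀ m, s ≤ m → m + 1 < e → A m := fun m a b =>
    (lt_or_ge m k.val).elim (fun h => s2 m a h) fun h => e4 m h b
  set S : Fin n := ⟨s, by omega⟩
  have hseg : ∀ d (h : s + d < n), s + d < e → (σ ⟨s + d, h⟩).val = (σ S).val + d := by
    intro d
    induction d with
    | zero => intro h _; rfl
    | succ d ih =>
      intro h h'
      rw [hup ⟨s + d, by omega⟩ ⟨s + (d + 1), h⟩ rfl (hin _ (by simp) (by simp; omega)),
        ih (by omega) (by omega)]
      rfl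
  have hinterval : ∀ j : Fin n, (σ S).val ≤ (σ j).val → (σ j).val < (σ S).val + (e - s) → s ≤ j.val ∧ j.val < e := by
    intro j h1 h2
    have := hseg ((σ j).val - (σ S).val) (by omega) (by omega)
    have hj : (⟨s + ((σ j).val - (σ S).val), by omega⟩ : Fin n) = j :=
      σ.injective (Fin.ext (by omega))
    rw [← hj]
    exact ⟨by simp, by simp; omega⟩
  have hlast : (σ ⟨e - 1, by omega⟩).val = (σ S).val + (e - 1 - s) := by
    have := hseg (e - 1 - s) (by omega) (by omega)
    simp only [show s + (e - 1 - s) = e - 1 by omega] at this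
    exact this
  have habove : ∀ d (h : e + d < n), (σ ⟨e + d, h⟩).val < (σ S).val := by
    intro d
    induction d with
    | zero =>
      intro h
      have hlt := hdown ⟨e - 1, by omega⟩ ⟨e + 0, h⟩ (by simp; omega) e3
      rw [Fin.lt_def, hlast] at hlt
      by_contra hge
      have := (hinterval ⟨e + 0, h⟩ (by omega) (by omega)).2
      simp at this
    | succ d ih =>
      intro h
      have hprev := ih (by omega)
      by_cases hA' : A (e + d)
      · have h1 := hup ⟨e + d, by omega⟩ ⟨e + (d + 1), h⟩ rfl hA'
        rcases eq_or_ne (σ ⟨e + (d + 1), h⟩).val (σ S).val with h2 | h2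
        · have := congrArg Fin.val (σ.injective (Fin.ext h2))
          simp [S] at this
          omega
        · omega
      · have h1 := hdown ⟨e + d, by omega⟩ ⟨e + (d + 1), h⟩ rfl hA'
        rw [Fin.lt_def] at h1
        omega
  have hbelow : ∀ d, d < s → ∀ h : s - 1 - d < n, (σ S).val + (e - s) ≤ (σ ⟨s - 1 - d, h⟩).val := by
    intro d
    induction d with
    | zero =>
      intro hd h
      have hlt := hdown ⟨s - 1 - 0, h⟩ S (by simp [S]; omega) (by simpa using st_prev (A := A) (k := k.val) hd)
      rw [Fin.lt_def] at hlt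
      by_contra hge
      have := (hinterval ⟨s - 1 - 0, h⟩ (by omega) (by omega)).1
      simp at this
      omega
    | succ d ih =>
      intro hd h
      have hnext := ih (by omega) (by omega)
      by_cases hA' : A (s - 1 - (d + 1))
      · have h1 := hup ⟨s - 1 - (d + 1), h⟩ ⟨s - 1 - d, by omega⟩ (by simp; omega) hA'
        rcases eq_or_ne (σ ⟨s - 1 - (d + 1), h⟩).val ((σ S).val + (e - 1 - s)) with h2 | h2
        · have := congrArg Fin.val (σ.injective (Fin.ext (h2.trans hlast.symm)))
          simp at this
          omega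
        · omega
      · have h1 := hdown ⟨s - 1 - (d + 1), h⟩ ⟨s - 1 - d, by omega⟩ (by simp; omega) hA'
        rw [Fin.lt_def] at h1
        omega
  have hcount : (σ S).val = n - e := by
    have h1 : (Finset.univ.filter fun j : Fin n => (σ j).val < (σ S).val).card = (σ S).val := by
      rw [Finset.card_equiv σ (t := Finset.univ.filter fun j : Fin n => j.val < (σ S).val) (fun j => by simp),
        Fin.card_filter_val_lt]
      omega
    have h2 : (Finset.univ.filter fun j : Fin n => (σ j).val < (σ S).val) =
        Finset.univ.filter fun j : Fin n => ¬ j.val < e := by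
      ext j
      simp only [Finset.mem_filter, Finset.mem_univ, true_and, not_lt]
      constructor
      · intro hj
        by_contra hlt
        push Not at hlt
        rcases lt_or_ge j.val s with h' | h'
        · have := hbelow (s - 1 - j.val) (by omega) (by omega)
          rw [show (⟨s - 1 - (s - 1 - j.val), by omega⟩ : Fin n) = j from Fin.ext (by simp; omega)] at this
          omega
        · have := hseg (j.val - s) (by omega) (by omega)
          rw [show (⟨s + (j.val - s), by omega⟩ : Fin n) = j from Fin.ext (by simp; omega)] at this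
          omega
      · intro hj
        have := habove (j.val - e) (by omega)
        rwa [show (⟨e + (j.val - e), by omega⟩ : Fin n) = j from Fin.ext (by simp; omega)] at this
    rw [← h1, h2, Finset.filter_not, Finset.card_sdiff_of_subset (Finset.filter_subset _ _), Finset.card_univ,
      Fintype.card_fin, Fin.card_filter_val_lt]
    omega
  have := hseg (k.val - s) (by omega) (by omega)
  rw [show (⟨s + (k.val - s), by omega⟩ : Fin n) = k from Fin.ext (by simp; omega)] at this
  omega

end H17.GLC.Seg
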