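import Cfsg.Agent.H17.GLCusp.Unitri
import Cfsg.Agent.H17.GLCusp.Segments
import Cfsg.Agent.H40.Bruhat

/-!
The character induced from the generic character of the unitriangular group is multiplicity free,
and the number of its constituents.
-/

set_option autoImplicit false
set_option linter.unusedSectionVars false
set_option linter.style.haveILetI false

namespace H17.GLC

open Cfsg Finset
open scoped ComplexConjugate

variable {F : Type*} [Field F] [Fintype F] [DecidableEq F] {n : ℕ}

theorem covBy_iff_succ {i j : Fin n} : i ⋖ j ↔ j.val = i.val + 1 := by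
  constructor
  · rintro ⟨h, h'⟩
    have hlt := Fin.lt_def.1 h
    by_contra hne
    exact h' (c := ⟨i.val + 1, by omega⟩) (Fin.lt_def.2 (by simp)) (Fin.lt_def.2 (by simp; omega))
  · intro h
    exact ⟨Fin.lt_def.2 (by omega), fun c hc hc' => by
      have := Fin.lt_def.1 hc; have := Fin.lt_def.1 hc'; omega⟩

/-- Diagonal matrices. -/
def diagG (t : Fin n → Fˣ) : GL (Fin n) F :=
  ⟨Matrix.diagonal fun i => (t i : F), Matrix.diagonal fun i => ((t i)⁻¹ : Fˣ), by
    rw [Matrix.diagonal_mul_diagonal, ← Matrix.diagonal_one]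
    congr 1
    funext i
    simp, by
    rw [Matrix.diagonal_mul_diagonal, ← Matrix.diagonal_one]
    congr 1
    funext i
    simp⟩

theorem diagG_apply (t : Fin n → Fˣ) (i j : Fin n) :
    (diagG t : Matrix (Fin n) (Fin n) F) i j = if i = j then (t i : F) else 0 := Matrix.diagonal_apply ..

theorem mul_diagG_apply (g : GL (Fin n) F) (t : Fin n → Fˣ) (i j : Fin n) :
    ((g * diagG t : GL (Fin n) F) : Matrix (Fin n) (Fin n) F) i j = (g : Matrix (Fin n) (Fin n) F) i j * t j :=
  Matrix.mul_diagonal ..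

theorem diagG_mul_apply (g : GL (Fin n) F) (t : Fin n → Fˣ) (i j : Fin n) :
    ((diagG t * g : GL (Fin n) F) : Matrix (Fin n) (Fin n) F) i j = t i * (g : Matrix (Fin n) (Fin n) F) i j :=
  Matrix.diagonal_mul ..

/-- Monomial matrices. -/
def mon (σ : Equiv.Perm (Fin n)) (t : Fin n → Fˣ) : GL (Fin n) F := permG σ * diagG t

theorem mon_apply (σ : Equiv.Perm (Fin n)) (t : Fin n → Fˣ) (i j : Fin n) :
    (mon σ t : Matrix (Fin n) (Fin n) F) i j = if i = σ j then (t j : F) else 0 := by
  rw [mon, mul_diagG_apply, permG_apply]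
  split_ifs <;> simp

theorem mon_mul_apply (σ : Equiv.Perm (Fin n)) (t : Fin n → Fˣ) (g : GL (Fin n) F) (i j : Fin n) :
    ((mon σ t * g : GL (Fin n) F) : Matrix (Fin n) (Fin n) F) (σ i) j = t i * (g : Matrix (Fin n) (Fin n) F) i j := by
  rw [Units.val_mul, Matrix.mul_apply, Finset.sum_eq_single i]
  · rw [mon_apply, if_pos rfl]
  · intro l _ hl
    rw [mon_apply, if_neg fun e => hl (σ.injective e).symm, zero_mul]
  · simp

theorem mul_mon_apply (σ : Equiv.Perm (Fin n)) (t : Fin n → Fˣ) (g : GL (Fin n) F) (i j : Fin n) :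
    ((g * mon σ t : GL (Fin n) F) : Matrix (Fin n) (Fin n) F) i j = (g : Matrix (Fin n) (Fin n) F) i (σ j) * t j := by
  rw [Units.val_mul, Matrix.mul_apply, Finset.sum_eq_single (σ j)]
  · rw [mon_apply, if_pos rfl]
  · intro l _ hl
    rw [mon_apply, if_neg hl, mul_zero]
  · simp

theorem upper_decomp (b : GL (Fin n) F) (hb : (b : Matrix (Fin n) (Fin n) F).BlockTriangular id) :
    ∃ (t : Fin n → Fˣ) (u u' : GL (Fin n) F), u ∈ UT (Fin n) F ∧ u' ∈ UT (Fin n) F ∧
      b = diagG t * u ∧ b = u' * diagG t := by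
  have hne : ∀ i, (b : Matrix (Fin n) (Fin n) F) i i ≠ 0 := by
    have h := (Matrix.isUnit_iff_isUnit_det _).1 b.isUnit
    rw [Matrix.det_of_isUpperTriangular hb, isUnit_iff_ne_zero, Finset.prod_ne_zero_iff] at h
    exact fun i => h i (Finset.mem_univ i)
  let t : Fin n → Fˣ := fun i => Units.mk0 _ (hne i)
  have hinv : ∀ i j, ((diagG t)⁻¹ : GL (Fin n) F).val i j =
      if i = j then (((t i)⁻¹ : Fˣ) : F) else 0 := fun i j => Matrix.diagonal_apply ..
  refine ⟨t, (diagG t)⁻¹ * b, b * (diagG t)⁻¹, ?_, ?_, by group, by group⟩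
  · have e : ∀ i j, (((diagG t)⁻¹ * b : GL (Fin n) F) : Matrix (Fin n) (Fin n) F) i j =
        (((t i)⁻¹ : Fˣ) : F) * (b : Matrix (Fin n) (Fin n) F) i j := by
      intro i j
      rw [Units.val_mul, Matrix.mul_apply, Finset.sum_eq_single i]
      · rw [hinv, if_pos rfl]
      · intro l _ hl
        rw [hinv, if_neg (Ne.symm hl), zero_mul]
      · simp
    refine mem_UT.2 ⟨fun i j hij => ?_, fun i => ?_⟩
    · rw [e, hb hij, mul_zero]
    · rw [e, Units.val_inv_eq_inv_val]
      exact inv_mul_cancel₀ (hne i)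
  · have e : ∀ i j, ((b * (diagG t)⁻¹ : GL (Fin n) F) : Matrix (Fin n) (Fin n) F) i j =
        (b : Matrix (Fin n) (Fin n) F) i j * (((t j)⁻¹ : Fˣ) : F) := by
      intro i j
      rw [Units.val_mul, Matrix.mul_apply, Finset.sum_eq_single j]
      · rw [hinv, if_pos rfl]
      · intro l _ hl
        rw [hinv, if_neg hl, mul_zero]
      · simp
    refine mem_UT.2 ⟨fun i j hij => ?_, fun i => ?_⟩
    · rw [e, hb hij, zero_mul]
    · rw [e, Units.val_inv_eq_inv_val]
      exact mul_inv_cancel₀ (hne i)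

/-- Every element is a monomial matrix up to unitriangular factors. -/
theorem exists_mon (g : GL (Fin n) F) :
    ∃ (a b : GL (Fin n) F) (σ : Equiv.Perm (Fin n)) (t : Fin n → Fˣ),
      a ∈ UT (Fin n) F ∧ b ∈ UT (Fin n) F ∧ g = a * mon σ t * b := by
  obtain ⟨b₁, b₂, σ, h1, h2, rfl⟩ := H40.exists_bruhat g
  obtain ⟨s, -, u', -, hu', -, e1⟩ := upper_decomp b₁ h1
  obtain ⟨r, u, -, hu, -, e2, -⟩ := upper_decomp b₂ h2
  refine ⟨u', u, σ, fun i => s (σ i) * r i, hu', hu, ?_⟩
  rw [e1, e2]
  have : diagG s * H40.permGL F σ * diagG r = mon σ fun i => s (σ i) * r i := by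
    refine Units.ext (Matrix.ext fun i j => ?_)
    rw [mul_diagG_apply, diagG_mul_apply, mon_apply, H40.coe_permGL, H40.permMat, Matrix.of_apply]
    split_ifs with h
    · rw [h]; simp
    · simp
  rw [← this]
  group

/-- Distinct monomial matrices lie in distinct double cosets. -/
theorem mon_unique {σ σ' : Equiv.Perm (Fin n)} {t t' : Fin n → Fˣ} {a b : GL (Fin n) F}
    (ha : a ∈ UT (Fin n) F) (hb : b ∈ UT (Fin n) F) (h : a * mon σ t * b = mon σ' t') : σ = σ' ∧ t = t' := by
  classical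
  have hp : ∀ σ : Equiv.Perm (Fin n), (permG σ : GL (Fin n) F).val = H40.permMat F σ := fun σ => by
    ext i j
    rw [permG_apply, H40.permMat, Matrix.of_apply]
  have hbt : ∀ {x : GL (Fin n) F}, x ∈ UT (Fin n) F →
      (x : Matrix (Fin n) (Fin n) F).BlockTriangular (fun i : Fin n => i.val) := fun hx i j hij =>
    (mem_UT.1 hx).1 i j hij
  have hd : ∀ t : Fin n → Fˣ, (diagG t : Matrix (Fin n) (Fin n) F).BlockTriangular (fun i : Fin n => i.val) :=
    fun t => Matrix.blockTriangular_diagonal _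
  have hperm : σ = σ' := by
    set r := diagG t * b * (diagG t')⁻¹ with hr
    have he : permG σ' = a * permG σ * r := by
      rw [hr, ← mul_assoc, ← mul_assoc, eq_mul_inv_iff_mul_eq, ← mon, mul_assoc a, ← mon, h]
    have hinv : (diagG t')⁻¹ = diagG fun i => (t' i)⁻¹ := Units.ext rfl
    have hrb : (r : Matrix (Fin n) (Fin n) F).BlockTriangular (fun i : Fin n => i.val) := by
      rw [hr, hinv, Units.val_mul, Units.val_mul]
      exact ((hd t).mul (hbt hb)).mul (hd _)
    have hrb' : ((r⁻¹ : GL (Fin n) F) : Matrix (Fin n) (Fin n) F).BlockTriangular (fun i : Fin n => i.val) := by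
      have hinvt : (diagG t)⁻¹ = diagG fun i => (t i)⁻¹ := Units.ext rfl
      rw [hr, mul_inv_rev, mul_inv_rev, inv_inv, hinvt, Units.val_mul, Units.val_mul]
      exact (hd t').mul ((hbt (inv_mem hb)).mul (hd _))
    obtain ⟨y, x, hy, hx, e⟩ := H40.exists_label_perm (fun i : Fin n => i.val) (fun i : Fin n => i.val) σ σ'
      (fun c d => by
        apply Nat.pow_right_injective (Fintype.one_lt_card (α := F))
        simp only
        rw [← H40.card_flagSlice_permMat, ← H40.card_flagSlice_permMat, ← hp σ', he, Units.val_mul,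
          Units.val_mul, hp]
        exact (H40.card_flagSlice_mul _ _ _ (hbt ha) (hbt (inv_mem ha)) hrb hrb' c d).symm)
    rw [e, show y = 1 from Equiv.ext fun i => Fin.ext (hy i), show x = 1 from Equiv.ext fun i => Fin.ext (hx i),
      one_mul, mul_one]
  subst hperm
  refine ⟨rfl, funext fun k => Units.ext ?_⟩
  have h' : a * mon σ t = mon σ t' * b⁻¹ := by rw [← h, mul_inv_cancel_right]
  have := congrArg (fun x : GL (Fin n) F => x.val (σ k) k) h'
  simp only [mul_mon_apply, mon_mul_apply] at this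
  rwa [(mem_UT.1 ha).2, (mem_UT.1 (inv_mem hb)).2, one_mul, mul_one] at this

/-- The monomial matrices that carry the generic character to itself. -/
def IsGood (σ : Equiv.Perm (Fin n)) (t : Fin n → Fˣ) : Prop :=
  ∀ i j : Fin n, j.val = i.val + 1 → σ i < σ j → (σ j).val = (σ i).val + 1 ∧ t i = t j

/-- The ascents of a permutation. -/
def ascent (σ : Equiv.Perm (Fin n)) (m : ℕ) : Prop :=
  ∃ h : m + 1 < n, σ ⟨m, by omega⟩ < σ ⟨m + 1, h⟩

theorem ascent_lt (σ : Equiv.Perm (Fin n)) : ∀ m, ascent σ m → m + 1 < n := fun _ h => h.1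

theorem ascent_iff (σ : Equiv.Perm (Fin n)) {i j : Fin n} (h : j.val = i.val + 1) :
    ascent σ i.val ↔ σ i < σ j := by
  have e : ∀ (hl : i.val + 1 < n), (⟨i.val + 1, hl⟩ : Fin n) = j := fun _ => Fin.ext h.symm
  constructor
  · rintro ⟨hl, hlt⟩
    rwa [e] at hlt
  · intro hlt
    have hl : i.val + 1 < n := h ▸ j.2
    exact ⟨hl, by rw [e]; exact hlt⟩

theorem IsGood.eq_perm {σ : Equiv.Perm (Fin n)} {t : Fin n → Fˣ} (h : IsGood σ t) :
    σ = Seg.perm (ascent_lt σ) := by
  refine Seg.perm_unique σ (ascent_lt σ) (fun i j hij hA => (h i j hij ((ascent_iff σ hij).1 hA)).1) ?_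
  intro i j hij hA
  refine lt_of_le_of_ne (not_lt.1 fun hl => hA ((ascent_iff σ hij).2 hl)) fun e => ?_
  have := congrArg Fin.val (σ.injective e)
  omega

theorem IsGood.val {σ : Equiv.Perm (Fin n)} {t : Fin n → Fˣ} (h : IsGood σ t) (k : Fin n) :
    (σ k).val = n - Seg.en (ascent σ) k.val + (k.val - Seg.st (ascent σ) k.val) := by
  conv_lhs => rw [h.eq_perm]
  rfl

theorem IsGood.t_eq {σ : Equiv.Perm (Fin n)} {t : Fin n → Fˣ} (h : IsGood σ t) {a : Fin n} :
    ∀ b : Fin n, a ≤ b → b.val < Seg.en (ascent σ) a.val → t a = t b := by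
  obtain ⟨e1, e2, e3, e4⟩ := Seg.en_spec (ascent_lt σ) a.2
  intro b
  obtain ⟨b, hb⟩ := b
  induction b with
  | zero =>
    intro hab _
    rw [show a = ⟨0, hb⟩ from le_antisymm hab (Fin.le_def.2 (Nat.zero_le _))]
  | succ b ih =>
    intro hab hbe
    rcases eq_or_lt_of_le hab with rfl | hlt
    · rfl
    · have hab' : a.val ≤ b := Nat.lt_succ_iff.1 (Fin.lt_def.1 hlt)
      simp only at hbe
      rw [ih (by omega) (Fin.le_def.2 hab') (show b < _ by omega)]
      exact (h ⟨b, by omega⟩ ⟨b + 1, hb⟩ rfl ((ascent_iff σ (i := ⟨b, by omega⟩) rfl).1 (e4 b hab' hbe))).2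

theorem IsGood.same {σ : Equiv.Perm (Fin n)} {t : Fin n → Fˣ} (h : IsGood σ t) {a b : Fin n}
    (hab : a < b) (hσ : σ a < σ b) :
    b.val < Seg.en (ascent σ) a.val ∧ (σ b).val + a.val = (σ a).val + b.val := by
  have hb : b.val < Seg.en (ascent σ) a.val := by
    by_contra hge
    have := Seg.val_lt_of_diff (ascent_lt σ) (Fin.lt_def.1 hab) b.2 (not_lt.1 hge)
    rw [← h.val, ← h.val] at this
    exact lt_asymm this (Fin.lt_def.1 hσ)
  refine ⟨hb, ?_⟩
  have h1 := (Seg.st_spec (A := ascent σ) a.val).1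
  obtain ⟨f1, f2⟩ := Seg.same_segment (ascent_lt σ) a.2 (show Seg.st (ascent σ) a.val ≤ b.val by
    have := Fin.lt_def.1 hab; omega) hb
  have := Fin.lt_def.1 hab
  rw [h.val, h.val, f1, f2]
  omega

/-- Good monomial matrices preserve the sums above the diagonal. -/
theorem IsGood.supSum_eq {σ : Equiv.Perm (Fin n)} {t : Fin n → Fˣ} (h : IsGood σ t) {v v' : GL (Fin n) F}
    (hv : v ∈ UT (Fin n) F) (hv' : v' ∈ UT (Fin n) F) (he : mon σ t * v = v' * mon σ t) :
    supSum v' = supSum v := by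
  classical
  have hent : ∀ a b, (t a : F) * (v : Matrix (Fin n) (Fin n) F) a b =
      (v' : Matrix (Fin n) (Fin n) F) (σ a) (σ b) * t b := fun a b => by
    rw [← mon_mul_apply, ← mul_mon_apply, he]
  simp only [supSum, Finset.sum_filter, Fintype.sum_prod_type]
  refine ((Fintype.sum_equiv σ _ _ fun a => Fintype.sum_equiv σ _ _ fun b => rfl).symm).trans ?_
  refine Finset.sum_congr rfl fun a _ => Finset.sum_congr rfl fun b _ => ?_
  simp only [covBy_iff_succ]
  by_cases h1 : (σ b).val = (σ a).val + 1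
  · rw [if_pos h1]
    rcases lt_trichotomy a b with hab | hab | hab
    · obtain ⟨hb, e⟩ := h.same hab (Fin.lt_def.2 (by omega))
      have := Fin.lt_def.1 hab
      rw [if_pos (show b.val = a.val + 1 by omega)]
      have := hent a b
      rw [h.t_eq b hab.le hb, mul_comm] at this
      exact (mul_right_cancel₀ (t b).ne_zero this).symm
    · subst hab; omega
    · rw [if_neg (fun e => by have := Fin.lt_def.1 hab; omega)]
      have := hent a b
      rw [(mem_UT.1 hv).1 a b hab, mul_zero, eq_comm, mul_eq_zero] at this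
      exact this.resolve_right (t b).ne_zero
  · rw [if_neg h1]
    split_ifs with h2
    · have hne : σ a ≠ σ b := fun e => by have := congrArg Fin.val (σ.injective e); omega
      rcases lt_or_gt_of_ne hne with hl | hl
      · exact absurd (h a b h2 hl).1 h1
      · have := hent a b
        rw [(mem_UT.1 hv').1 _ _ hl, zero_mul, mul_eq_zero] at this
        exact (this.resolve_left (t a).ne_zero).symm
    · rfl

/-- An elementary transvection. -/
def transG (i j : Fin n) (hij : i ≠ j) (x : F) : GL (Fin n) F :=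
  ⟨Matrix.transvection i j x, Matrix.transvection i j (-x), by
    rw [Matrix.transvection_mul_transvection_same i j hij, add_neg_cancel, Matrix.transvection_zero], by
    rw [Matrix.transvection_mul_transvection_same i j hij, neg_add_cancel, Matrix.transvection_zero]⟩

theorem transG_apply (i j : Fin n) (hij : i ≠ j) (x : F) (a b : Fin n) :
    (transG i j hij x : Matrix (Fin n) (Fin n) F) a b =
      (if a = b then 1 else 0) + if i = a ∧ j = b then x else 0 := by
  show Matrix.transvection i j x a b = _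
  rw [Matrix.transvection, Matrix.add_apply, Matrix.one_apply, Matrix.single_apply]

theorem transG_mem_UT (i j : Fin n) (hij : i < j) (x : F) : transG i j hij.ne x ∈ UT (Fin n) F := by
  refine mem_UT.2 ⟨fun a b hab => ?_, fun a => ?_⟩
  · rw [transG_apply, if_neg hab.ne', if_neg, add_zero]
    rintro ⟨rfl, rfl⟩
    exact lt_asymm hij hab
  · rw [transG_apply, if_pos rfl, if_neg, add_zero]
    rintro ⟨rfl, rfl⟩
    exact lt_irrefl _ hij

theorem supSum_transG (i j : Fin n) (hij : i < j) (x : F) :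
    supSum (transG i j hij.ne x) = if j.val = i.val + 1 then x else 0 := by
  classical
  rw [supSum, Finset.sum_filter, Finset.sum_eq_single (i, j)]
  · simp only [covBy_iff_succ, transG_apply, if_neg hij.ne, zero_add, and_self, if_true]
  · rintro ⟨a, b⟩ _ hne
    simp only
    split_ifs with hc
    · rw [transG_apply, if_neg hc.lt.ne, if_neg, add_zero]
      rintro ⟨rfl, rfl⟩
      exact hne rfl
    · rfl
  · simp

/-- Monomial matrices that are not good distort the generic character. -/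
theorem not_good {η : AddChar F ℂ} (hη : η ≠ 1) {σ : Equiv.Perm (Fin n)} {t : Fin n → Fˣ}
    (h : ¬ IsGood σ t) : ∃ v v' : GL (Fin n) F, v ∈ UT (Fin n) F ∧ v' ∈ UT (Fin n) F ∧
      mon σ t * v = v' * mon σ t ∧ η (supSum v') ≠ η (supSum v) := by
  classical
  simp only [IsGood, not_forall] at h
  obtain ⟨i, j, hij, hlt, hne⟩ := h
  have hlt' : i < j := Fin.lt_def.2 (by omega)
  obtain ⟨x₀, hx₀⟩ : ∃ x, η x ≠ 1 := by
    by_contra hc
    push Not at hc
    exact hη (DFunLike.ext _ _ fun x => by rw [hc x, AddChar.one_apply])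
  set r : F := (t i : F) * (((t j)⁻¹ : Fˣ) : F) with hr
  obtain ⟨x, hx⟩ : ∃ x : F, η (if (σ j).val = (σ i).val + 1 then x * r else 0) ≠ η x := by
    by_cases hadj : (σ j).val = (σ i).val + 1
    · have hr1 : r - 1 ≠ 0 := by
        intro e
        refine hne ⟨hadj, Units.ext ?_⟩
        rw [sub_eq_zero, hr, Units.val_inv_eq_inv_val, ← div_eq_mul_inv, div_eq_one_iff_eq (t j).ne_zero] at e
        exact e
      refine ⟨x₀ / (r - 1), fun e => hx₀ ?_⟩
      rw [if_pos hadj] at e
      have h1 : η (x₀ / (r - 1) * r) = η x₀ * η (x₀ / (r - 1)) := by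
        rw [← AddChar.map_add_eq_mul]
        congr 1
        field_simp
        ring
      rw [h1] at e
      exact mul_eq_right₀ (AddChar.val_isUnit η _).ne_zero |>.1 e
    · exact ⟨x₀, by rw [if_neg hadj, AddChar.map_zero_eq_one]; exact Ne.symm hx₀⟩
  refine ⟨transG i j hlt'.ne x, transG (σ i) (σ j) hlt.ne (x * r), transG_mem_UT i j hlt' x,
    transG_mem_UT _ _ hlt _, ?_, ?_⟩
  · refine Units.ext (Matrix.ext fun a b => ?_)
    obtain ⟨a, rfl⟩ := σ.surjective a
    rw [mon_mul_apply, mul_mon_apply, transG_apply, transG_apply]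
    simp only [σ.injective.eq_iff]
    by_cases hab : a = b
    · subst hab
      simp [show ¬ (i = a ∧ j = a) from fun h => hlt'.ne (h.1.trans h.2.symm)]
    · simp only [if_neg hab, zero_add]
      split_ifs with h1
      · obtain ⟨rfl, rfl⟩ := h1
        rw [hr, Units.val_inv_eq_inv_val]
        field_simp [(t j).ne_zero]
      · simp
  · rw [supSum_transG _ _ hlt, supSum_transG _ _ hlt', if_pos hij]
    exact hx

/-- Transpose about the antidiagonal. -/
def revT (M : Matrix (Fin n) (Fin n) F) : Matrix (Fin n) (Fin n) F := Matrix.of fun i j => M j.rev i.rev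

theorem revT_mul (M N : Matrix (Fin n) (Fin n) F) : revT (M * N) = revT N * revT M := by
  ext i j
  simp only [revT, Matrix.of_apply, Matrix.mul_apply]
  exact Fintype.sum_equiv Fin.revPerm _ _ fun l => by
    simp only [Fin.revPerm_apply, Fin.rev_rev]; ring

theorem revT_one : revT (1 : Matrix (Fin n) (Fin n) F) = 1 := by
  ext i j
  simp only [revT, Matrix.of_apply, Matrix.one_apply, Fin.rev_inj]
  simp [eq_comm]

/-- The anti-automorphism fixing the good monomial matrices. -/
def tauG (g : GL (Fin n) F) : GL (Fin n) F :=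
  ⟨revT g.val, revT (g⁻¹ : GL (Fin n) F).val, by rw [← revT_mul, ← Units.val_mul, inv_mul_cancel, Units.val_one, revT_one],
    by rw [← revT_mul, ← Units.val_mul, mul_inv_cancel, Units.val_one, revT_one]⟩

theorem tauG_apply (g : GL (Fin n) F) (i j : Fin n) :
    (tauG g : Matrix (Fin n) (Fin n) F) i j = (g : Matrix (Fin n) (Fin n) F) j.rev i.rev := rfl

theorem tauG_mul (a b : GL (Fin n) F) : tauG (a * b) = tauG b * tauG a := Units.ext (revT_mul a.val b.val)

theorem tauG_tauG (a : GL (Fin n) F) : tauG (tauG a) = a :=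
  Units.ext (Matrix.ext fun i j => by rw [tauG_apply, tauG_apply, Fin.rev_rev, Fin.rev_rev])

theorem tauG_UT {u : GL (Fin n) F} (hu : u ∈ UT (Fin n) F) :
    tauG u ∈ UT (Fin n) F ∧ supSum (tauG u) = supSum u := by
  classical
  refine ⟨mem_UT.2 ⟨fun i j hij => (mem_UT.1 hu).1 _ _ (Fin.rev_lt_rev.2 hij), fun i => (mem_UT.1 hu).2 _⟩, ?_⟩
  simp only [supSum, Finset.sum_filter]
  refine Fintype.sum_equiv ((Equiv.prodComm _ _).trans (Equiv.prodCongr Fin.revPerm Fin.revPerm)) _ _ fun p => ?_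
  simp only [Equiv.trans_apply, Equiv.prodComm_apply, Prod.fst_swap, Prod.snd_swap, Equiv.prodCongr_apply,
    Prod.map_fst, Prod.map_snd, Fin.revPerm_apply, covBy_iff_succ, tauG_apply, Fin.val_rev]
  have := p.1.2
  have := p.2.2
  congr 1
  exact propext ⟨fun h => by omega, fun h => by omega⟩

theorem IsGood.tauG_mon {σ : Equiv.Perm (Fin n)} {t : Fin n → Fˣ} (h : IsGood σ t) :
    tauG (mon σ t) = mon σ t := by
  have key : ∀ k : Fin n, σ (σ k).rev = k.rev ∧ t (σ k).rev = t k := by
    intro k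
    obtain ⟨e1, e2, -, -⟩ := Seg.en_spec (ascent_lt σ) k.2
    obtain ⟨s1, -⟩ := Seg.st_spec (A := ascent σ) k.val
    have hv := h.val k
    have hk' : ((σ k).rev).val = Seg.en (ascent σ) k.val - 1 - (k.val - Seg.st (ascent σ) k.val) := by
      rw [Fin.val_rev, hv]; omega
    obtain ⟨f1, f2⟩ := Seg.same_segment (ascent_lt σ) k.2 (k' := (σ k).rev.val) (by omega) (by omega)
    constructor
    · refine Fin.ext ?_
      rw [h.val, f1, f2, Fin.val_rev k]
      omega
    · rcases le_total k (σ k).rev with hle | hle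
      · exact (h.t_eq _ hle (by omega)).symm
      · exact h.t_eq k hle (by rw [f2]; exact e1)
  refine Units.ext (Matrix.ext fun i j => ?_)
  rw [tauG_apply, mon_apply, mon_apply]
  by_cases hij : i = σ j
  · subst hij
    rw [if_pos (key j).1.symm, if_pos rfl, (key j).2]
  · rw [if_neg hij, if_neg]
    intro e
    refine hij ?_
    have := (key i.rev).1
    rw [← e, Fin.rev_rev, Fin.rev_rev] at this
    exact this.symm

theorem norm_addChar_mul_conj (η : AddChar F ℂ) (x : F) : η x * conj (η x) = 1 := by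
  rw [conj_addChar, ← AddChar.map_add_eq_mul, add_neg_cancel, AddChar.map_zero_eq_one]

/-- The generic multiplicity is at most one. -/
theorem gen_zero_or_one {η : AddChar F ℂ} (hη : η ≠ 1) {χ : GL (Fin n) F → ℂ}
    (hχ : IsIrrCharacter (GL (Fin n) F) χ) : gen η χ = 0 ∨ gen η χ = 1 := by
  classical
  haveI := Fintype.ofFinite (UT (Fin n) F)
  have e : gen η χ = (Fintype.card (UT (Fin n) F) : ℂ)⁻¹ * ∑ u : UT (Fin n) F, χ u * psiU η u⁻¹ := by
    rw [gen, sum_ite_subgroup, Nat.card_eq_fintype_card]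
    simp only [psiU_inv]
  rw [e]
  refine linear_multiplicity_le_one (UT (Fin n) F) (psiU η) tauG tauG_mul tauG_tauG ?_ ?_ hχ
  · intro u
    obtain ⟨h1, h2⟩ := tauG_UT u.2
    exact ⟨⟨_, h1⟩, rfl, congrArg η h2⟩
  · intro g
    obtain ⟨a, b, σ, t, ha, hb, rfl⟩ := exists_mon g
    refine ⟨⟨a, ha⟩, ⟨b, hb⟩, mon σ t, rfl, ?_⟩
    by_cases h : IsGood σ t
    · exact Or.inl h.tauG_mon
    · obtain ⟨v, v', hv, hv', he, hne⟩ := not_good hη h
      exact Or.inr ⟨⟨v, hv⟩, ⟨v', hv'⟩, he, hne⟩

/-- The Gelfand–Graev character. -/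
noncomputable def gamma (η : AddChar F ℂ) (B : Type*) [Fintype B] [DecidableEq B] [LinearOrder B] : GL B F → ℂ :=
  indFun (UT B F) (psiU η)

theorem isCharacter_gamma (η : AddChar F ℂ) : IsCharacter (GL (Fin n) F) (gamma η (Fin n)) :=
  H13.isCharacter_indFun (UT (Fin n) F)
    (H12.isCharacter_of_isIrrCharacter (H12.isIrrCharacter_monoidHom (psiU η).toHomUnits))

theorem classInner_gamma {η : AddChar F ℂ} (hη : η ≠ 1) (χ : IrrCharacter (GL (Fin n) F)) :
    classInner (gamma η (Fin n)) χ = gen η (χ : GL (Fin n) F → ℂ) := by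
  rw [← H12.conj_classInner, gamma, ← gen_eq_ind η (H12.irr_isClassFunction χ)]
  rcases gen_zero_or_one hη χ.2 with h | h <;> rw [h] <;> simp

open Classical in
theorem classInner_gamma_self {η : AddChar F ℂ} (hη : η ≠ 1) :
    classInner (gamma η (Fin n)) (gamma η (Fin n)) =
      (Nat.card {p : Equiv.Perm (Fin n) × (Fin n → Fˣ) // IsGood p.1 p.2} : ℂ) := by
  haveI := Fintype.ofFinite (UT (Fin n) F)
  set U := UT (Fin n) F
  have hcl : IsClassFunction U (psiU η) := fun u x => by
    rw [map_mul, map_mul, mul_right_comm, ← map_mul, mul_inv_cancel, map_one, one_mul]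
  let W : Finset (GL (Fin n) F) :=
    (univ.filter fun p : Equiv.Perm (Fin n) × (Fin n → Fˣ) => IsGood p.1 p.2).image fun p => mon p.1 p.2
  rw [gamma, classInner_indFun_eq_reps U U hcl hcl W]
  · have hinj : ∀ p q : Equiv.Perm (Fin n) × (Fin n → Fˣ), (mon p.1 p.2 : GL (Fin n) F) = mon q.1 q.2 → p = q := by
      intro p q h
      obtain ⟨h1, h2⟩ := mon_unique (one_mem U) (one_mem U) (show 1 * mon p.1 p.2 * 1 = mon q.1 q.2 by
        rw [one_mul, mul_one, h])
      exact Prod.ext h1 h2
    rw [Finset.sum_image fun p _ q _ h => hinj p q h, Nat.card_eq_fintype_card, Fintype.card_subtype,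
      ← mul_one ((Finset.card _ : ℕ) : ℂ), ← nsmul_eq_mul, ← Finset.sum_const]
    refine Finset.sum_congr rfl fun p hp => ?_
    have hgood := (Finset.mem_filter.1 hp).2
    have hN : (Nat.card {g : GL (Fin n) F // g ∈ U ∧ (mon p.1 p.2)⁻¹ * g * mon p.1 p.2 ∈ U} : ℂ) ≠ 0 := by
      haveI : Nonempty {g : GL (Fin n) F // g ∈ U ∧ (mon p.1 p.2)⁻¹ * g * mon p.1 p.2 ∈ U} :=
        ⟨⟨1, one_mem _, by simp⟩⟩
      exact Nat.cast_ne_zero.2 Nat.card_pos.ne'
    rw [div_eq_one_iff_eq hN, mackeyTerm, Nat.card_eq_fintype_card, Fintype.card_subtype,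
      Finset.cast_card, Finset.sum_filter]
    refine Finset.sum_congr rfl fun g _ => ?_
    split_ifs with hg
    · rw [H13.extendByZero_mem _ _ hg.1, H13.extendByZero_mem _ _ hg.2]
      show η (supSum g) * conj (η (supSum ((mon p.1 p.2)⁻¹ * g * mon p.1 p.2))) = (1 : ℂ)
      rw [← hgood.supSum_eq hg.2 hg.1 (by group), norm_addChar_mul_conj]
    · rw [not_and_or] at hg
      rcases hg with hg | hg
      · rw [H13.extendByZero_notMem _ _ hg, zero_mul]
      · rw [H13.extendByZero_notMem _ _ hg, map_zero, mul_zero]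
  · intro x hx
    obtain ⟨a, b, σ, t, ha, hb, rfl⟩ := exists_mon x
    rw [mackeyTerm_mul U U hcl hcl ⟨a, ha⟩ ⟨b, hb⟩] at hx
    refine ⟨mon σ t, Finset.mem_image.2 ⟨(σ, t), Finset.mem_filter.2 ⟨Finset.mem_univ _, ?_⟩, rfl⟩, a, ha, b, hb, rfl⟩
    by_contra hng
    obtain ⟨v, v', hv, hv', he, hne⟩ := not_good hη hng
    refine hx ?_
    set m := mon σ t
    set M := mackeyTerm U U (psiU η) (psiU η) m
    have hshift : M = (η (supSum v') * conj (η (supSum v))) * M := by
      simp only [M, mackeyTerm, Finset.mul_sum]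
      refine (Fintype.sum_equiv (Equiv.mulRight v') _ _ fun g => ?_).symm
      simp only [Equiv.coe_mulRight]
      have e : m⁻¹ * (g * v') * m = m⁻¹ * g * m * v := by
        rw [← mul_assoc m⁻¹ g v', mul_assoc (m⁻¹ * g), ← he]; group
      have ext_mul : ∀ (g : GL (Fin n) F) (w : GL (Fin n) F), w ∈ U →
          extendByZero U (psiU η) (g * w) = extendByZero U (psiU η) g * η (supSum w) := by
        intro g w hw
        by_cases hg : g ∈ U
        · rw [H13.extendByZero_mem _ _ hg, H13.extendByZero_mem _ _ (mul_mem hg hw)]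
          exact map_mul (psiU η) ⟨g, hg⟩ ⟨w, hw⟩
        · rw [H13.extendByZero_notMem _ _ hg, H13.extendByZero_notMem _ _ fun h => hg (by
            simpa using mul_mem h (inv_mem hw)), zero_mul]
      rw [e, ext_mul g v' hv', ext_mul _ v hv, map_mul]
      ring
    have h1 : (η (supSum v') * conj (η (supSum v)) - 1) * M = 0 := by
      rw [sub_mul, one_mul, ← hshift, sub_self]
    refine (mul_eq_zero.1 h1).resolve_left (sub_ne_zero.2 fun e => hne ?_)
    have := congrArg (fun z => z * η (supSum v)) e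
    simpa [mul_assoc, mul_comm (conj (η (supSum v))), norm_addChar_mul_conj] using this
  · intro w hw w' hw' a ha b hb he
    obtain ⟨p, -, rfl⟩ := Finset.mem_image.1 hw
    obtain ⟨q, -, rfl⟩ := Finset.mem_image.1 hw'
    obtain ⟨h1, h2⟩ := mon_unique ha hb he
    rw [h1, h2]

/-- The diagonal of the good monomial matrix with given data. -/
def diagSeq (t₀ : Fˣ) (f : Fin (n - 1) → Option Fˣ) : ℕ → Fˣ
  | 0 => t₀
  | m + 1 => if h : m < n - 1 then (f ⟨m, h⟩).getD (diagSeq t₀ f m) else diagSeq t₀ f m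

theorem card_good (hn : 0 < n) :
    Nat.card {p : Equiv.Perm (Fin n) × (Fin n → Fˣ) // IsGood p.1 p.2} =
      (Fintype.card F - 1) * Fintype.card F ^ (n - 1) := by
  classical
  have hcard : Nat.card (Fˣ × (Fin (n - 1) → Option Fˣ)) = (Fintype.card F - 1) * Fintype.card F ^ (n - 1) := by
    rw [Nat.card_eq_fintype_card, Fintype.card_prod, Fintype.card_fun, Fintype.card_option, Fintype.card_units,
      Fintype.card_fin, Nat.sub_add_cancel Fintype.card_pos]
  rw [← hcard]
  let A : (Fin (n - 1) → Option Fˣ) → ℕ → Prop := fun f m => ∃ h : m < n - 1, f ⟨m, h⟩ = none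
  have hA : ∀ f m, A f m → m + 1 < n := fun f m h => by have := h.1; omega
  have hasc : ∀ f, ∀ i j : Fin n, j.val = i.val + 1 →
      (Seg.perm (hA f) i < Seg.perm (hA f) j ↔ A f i.val) := by
    intro f i j hij
    rw [Fin.lt_def, Seg.perm_val, Seg.perm_val, hij]
    constructor
    · intro hlt
      by_contra hh
      exact lt_asymm hlt (Seg.step_descent (hA f) hh (hij ▸ j.2))
    · intro hh
      rw [Seg.step_ascent (hA f) hh]
      exact Nat.lt_succ_self _
  let Φ : Fˣ × (Fin (n - 1) → Option Fˣ) → {p : Equiv.Perm (Fin n) × (Fin n → Fˣ) // IsGood p.1 p.2} :=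
    fun d => ⟨(Seg.perm (hA d.2), fun i => diagSeq d.1 d.2 i.val), fun i j hij hlt => by
      have hh := (hasc d.2 i j hij).1 hlt
      refine ⟨?_, ?_⟩
      · rw [Seg.perm_val, Seg.perm_val, hij]
        exact Seg.step_ascent (hA d.2) hh
      · obtain ⟨h, hnone⟩ := hh
        show diagSeq d.1 d.2 i.val = diagSeq d.1 d.2 j.val
        rw [hij, diagSeq, dif_pos h, hnone, Option.getD_none]⟩
  refine (Nat.card_congr (Equiv.ofBijective Φ ⟨?_, ?_⟩)).symm
  · rintro ⟨t₀, f⟩ ⟨t₁, g⟩ h
    have h1 : Seg.perm (hA f) = Seg.perm (hA g) := congrArg (fun p => p.1.1) h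
    have h2 : (fun i : Fin n => diagSeq t₀ f i.val) = fun i => diagSeq t₁ g i.val := congrArg (fun p => p.1.2) h
    refine Prod.ext (congrFun h2 ⟨0, hn⟩) (funext fun m => ?_)
    obtain ⟨m, hm⟩ := m
    have hiff : f ⟨m, hm⟩ = none ↔ g ⟨m, hm⟩ = none := by
      have e1 := hasc f ⟨m, by omega⟩ ⟨m + 1, by omega⟩ rfl
      have e2 := hasc g ⟨m, by omega⟩ ⟨m + 1, by omega⟩ rfl
      rw [h1, e2] at e1
      exact ⟨fun h => (e1.2 ⟨hm, h⟩).2, fun h => (e1.1 ⟨hm, h⟩).2⟩
    have e3 : diagSeq t₀ f (m + 1) = diagSeq t₁ g (m + 1) := congrFun h2 ⟨m + 1, by omega⟩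
    rw [diagSeq, diagSeq, dif_pos hm, dif_pos hm] at e3
    show f ⟨m, hm⟩ = g ⟨m, hm⟩
    cases hf : f ⟨m, hm⟩ with
    | none => exact (hiff.1 hf).symm
    | some r =>
      cases hg : g ⟨m, hm⟩ with
      | none => exact absurd (hiff.2 hg) (by rw [hf]; simp)
      | some r' =>
        simp only [hf, hg, Option.getD_some] at e3
        rw [e3]
  · rintro ⟨⟨σ, t⟩, hg⟩
    let f : Fin (n - 1) → Option Fˣ := fun m =>
      if σ ⟨m.val, by omega⟩ < σ ⟨m.val + 1, by omega⟩ then none else some (t ⟨m.val + 1, by omega⟩)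
    have hAA : A f = ascent σ := by
      funext m
      refine propext ⟨fun ⟨h, hh⟩ => ?_, fun ⟨h, hh⟩ => ⟨by omega, if_pos hh⟩⟩
      refine ⟨by omega, ?_⟩
      by_contra hc
      simp only [f, if_neg hc] at hh
      exact Option.some_ne_none _ hh
    refine ⟨(t ⟨0, hn⟩, f), Subtype.ext (Prod.ext ?_ ?_)⟩
    · show Seg.perm (hA f) = σ
      have hg : IsGood σ t := hg
      conv_rhs => rw [hg.eq_perm]
      refine Equiv.ext fun k => Fin.ext ?_
      rw [Seg.perm_val, Seg.perm_val, hAA]
    · funext i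
      show diagSeq (t ⟨0, hn⟩) f i.val = t i
      obtain ⟨i, hi⟩ := i
      induction i with
      | zero => rfl
      | succ i ih =>
        show diagSeq (t ⟨0, hn⟩) f (i + 1) = _
        rw [diagSeq, dif_pos (by omega)]
        by_cases hc : σ ⟨i, by omega⟩ < σ ⟨i + 1, hi⟩
        · rw [show f ⟨i, by omega⟩ = none from if_pos hc, Option.getD_none, ih (by omega)]
          exact (hg ⟨i, by omega⟩ ⟨i + 1, hi⟩ rfl hc).2
        · rw [show f ⟨i, by omega⟩ = some (t ⟨i + 1, hi⟩) from if_neg hc, Option.getD_some]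

/-- The number of generic irreducible characters. -/
theorem card_generic {η : AddChar F ℂ} (hη : η ≠ 1) (hn : 0 < n) :
    Nat.card {χ : IrrCharacter (GL (Fin n) F) // gen η (χ : GL (Fin n) F → ℂ) ≠ 0} =
      (Fintype.card F - 1) * Fintype.card F ^ (n - 1) := by
  classical
  rw [← card_good (F := F) hn]
  have h := classInner_gamma_self (F := F) (n := n) hη
  have e : gamma η (Fin n) = ∑ χ : IrrCharacter (GL (Fin n) F), gen η (χ : GL (Fin n) F → ℂ) • (χ : GL (Fin n) F → ℂ) := by
    conv_lhs => rw [H12.classFunction_eq_sum (H12.IsCharacter.isClassFunction (isCharacter_gamma η))]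
    simp only [classInner_gamma hη]
  rw [e, H12.classInner_sum_smul_sum_smul] at h
  have e2 : ∀ χ : IrrCharacter (GL (Fin n) F), gen η (χ : GL (Fin n) F → ℂ) * conj (gen η (χ : GL (Fin n) F → ℂ)) =
      if gen η (χ : GL (Fin n) F → ℂ) ≠ 0 then 1 else 0 := by
    intro χ
    rcases gen_zero_or_one hη χ.2 with h | h <;> rw [h] <;> simp
  rw [Finset.sum_congr rfl fun χ _ => e2 χ, Finset.sum_boole, ← Fintype.card_subtype,
    ← Nat.card_eq_fintype_card] at h
  exact_mod_cast h

end H17.GLC
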