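import Cfsg.Agent.H17.GLCusp.GG

/-!
Characters induced from cuspidal data: their inner products with each other and with the
Gelfand–Graev character, and the classification of the generic characters.
-/

set_option autoImplicit false
set_option linter.unusedSectionVars false
set_option linter.style.haveILetI false

namespace H17.GLC

open Cfsg Finset
open scoped ComplexConjugate

variable {F : Type*} [Field F] [Fintype F] [DecidableEq F]

section Transport

variable {A B : Type*} [Fintype A] [DecidableEq A] [Fintype B] [DecidableEq B]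

/-- Transport of an irreducible character. -/
def trIrr (e : A ≃ B) (χ : IrrCharacter (GL B F)) : IrrCharacter (GL A F) :=
  ⟨(χ : GL B F → ℂ) ∘ reGL e, H12.IsIrrCharacter.comp_surjective χ.2 (f := (reGL (F := F) e).toMonoidHom)
    (reGL e).surjective⟩

theorem trIrr_apply (e : A ≃ B) (χ : IrrCharacter (GL B F)) (g : GL A F) :
    (trIrr e χ : GL A F → ℂ) g = (χ : GL B F → ℂ) (reGL e g) := rfl

theorem trIrr_eq (e e' : A ≃ B) (χ : IrrCharacter (GL B F)) : trIrr e χ = trIrr e' χ :=
  Subtype.ext (funext fun g => classFun_reGL (H12.irr_isClassFunction χ) e' e g)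

theorem trIrr_trans {C : Type*} [Fintype C] [DecidableEq C] (e : A ≃ B) (e' : B ≃ C)
    (χ : IrrCharacter (GL C F)) : trIrr e (trIrr e' χ) = trIrr (e.trans e') χ := rfl

theorem trIrr_refl (χ : IrrCharacter (GL A F)) : trIrr (Equiv.refl A) χ = χ := rfl

theorem trIrr_symm (e : A ≃ B) (χ : IrrCharacter (GL A F)) : trIrr e (trIrr e.symm χ) = χ := by
  rw [trIrr_trans, trIrr_eq (e.trans e.symm) (Equiv.refl A), trIrr_refl]

end Transport

section GenTransport

variable {A B : Type*} [Fintype A] [DecidableEq A] [LinearOrder A] [Fintype B] [DecidableEq B] [LinearOrder B]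

theorem gen_reGL (η : AddChar F ℂ) (χ : GL B F → ℂ) (e : A ≃o B) :
    gen η (χ ∘ reGL e.toEquiv) = gen η χ := by
  classical
  have hmem : ∀ g : GL A F, reGL e.toEquiv g ∈ UT B F ↔ g ∈ UT A F := by
    intro g
    rw [mem_UT, mem_UT]
    constructor
    · rintro ⟨h1, h2⟩
      refine ⟨fun i j hij => ?_, fun i => ?_⟩
      · have := h1 (e i) (e j) (e.lt_iff_lt.2 hij)
        rwa [reGL_apply, show e.toEquiv.symm (e i) = i from e.symm_apply_apply i,
          show e.toEquiv.symm (e j) = j from e.symm_apply_apply j] at this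
      · have := h2 (e i)
        rwa [reGL_apply, show e.toEquiv.symm (e i) = i from e.symm_apply_apply i] at this
    · rintro ⟨h1, h2⟩
      refine ⟨fun i j hij => ?_, fun i => ?_⟩
      · rw [reGL_apply]; exact h1 _ _ (e.symm.lt_iff_lt.2 hij)
      · rw [reGL_apply]; exact h2 _
  have hsup : ∀ g : GL A F, supSum (reGL e.toEquiv g) = supSum g := by
    intro g
    simp only [supSum, Finset.sum_filter]
    refine (Fintype.sum_equiv (e.toEquiv.prodCongr e.toEquiv) _ _ fun p => ?_).symm
    simp only [Equiv.prodCongr_apply, Prod.map_fst, Prod.map_snd, reGL_apply, Equiv.symm_apply_apply]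
    congr 1
    exact propext (apply_covBy_apply_iff e).symm
  have hcard : Nat.card (UT A F) = Nat.card (UT B F) :=
    Nat.card_congr ((reGL e.toEquiv).toEquiv.subtypeEquiv fun g => (hmem g).symm)
  rw [gen, gen, hcard]
  congr 1
  refine Fintype.sum_equiv (reGL e.toEquiv).toEquiv _ _ fun g => ?_
  show _ = if reGL e.toEquiv g ∈ UT B F then χ (reGL e.toEquiv g) * η (-supSum (reGL e.toEquiv g)) else 0
  simp only [hmem, hsup, Function.comp_apply]

end GenTransport

/-- A cuspidal character of `GL_d`, for positive `d`. -/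
def Cus (F : Type*) [Field F] [Fintype F] [DecidableEq F] (d : ℕ) : Type _ :=
  {χ : IrrCharacter (GL (Fin d) F) // 0 < d ∧ Cusp (χ : GL (Fin d) F → ℂ)}

/-- Cuspidal characters of all degrees. -/
abbrev Blk (F : Type*) [Field F] [Fintype F] [DecidableEq F] : Type _ := Σ d, Cus F d

/-- The block attached to a cuspidal character of a general linear group on any finite type. -/
noncomputable def mkBlk {A : Type*} [Fintype A] [DecidableEq A] [Nonempty A] (χ : IrrCharacter (GL A F))
    (h : Cusp (χ : GL A F → ℂ)) : Blk F :=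
  ⟨Fintype.card A, trIrr (Fintype.equivFin A).symm χ, Fintype.card_pos, h.comp_reGL _⟩

theorem mkBlk_eq_iff {A B : Type*} [Fintype A] [DecidableEq A] [Nonempty A] [Fintype B] [DecidableEq B]
    [Nonempty B] {χ : IrrCharacter (GL A F)} {ψ : IrrCharacter (GL B F)} (h : Cusp (χ : GL A F → ℂ))
    (h' : Cusp (ψ : GL B F → ℂ)) (e : A ≃ B) : mkBlk χ h = mkBlk ψ h' ↔ χ = trIrr e ψ := by
  have hc : Fintype.card A = Fintype.card B := Fintype.card_congr e
  have key : ∀ (d : ℕ) (ea : A ≃ Fin d) (eb : B ≃ Fin d) (p : 0 < d ∧ Cusp (trIrr ea.symm χ : GL (Fin d) F → ℂ))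
      (p' : 0 < d ∧ Cusp (trIrr eb.symm ψ : GL (Fin d) F → ℂ)),
      ((⟨d, trIrr ea.symm χ, p⟩ : Blk F) = ⟨d, trIrr eb.symm ψ, p'⟩) ↔ χ = trIrr e ψ := by
    intro d ea eb p p'
    refine sigma_mk_injective.eq_iff.trans ?_
    refine Subtype.ext_iff.trans ?_
    show trIrr ea.symm χ = trIrr eb.symm ψ ↔ _
    constructor
    · intro hh
      rw [← trIrr_symm ea χ, hh, trIrr_trans, trIrr_eq (ea.trans eb.symm) e]
    · rintro rfl
      rw [trIrr_trans, trIrr_eq (ea.symm.trans e) eb.symm]
  have hmk : ∀ (d : ℕ) (hd : Fintype.card B = d),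
      mkBlk ψ h' = ⟨d, trIrr ((Fintype.equivFin B).trans (finCongr hd)).symm ψ,
        hd ▸ Fintype.card_pos, h'.comp_reGL _⟩ := by
    intro d hd
    subst hd
    rfl
  rw [hmk _ hc.symm]
  exact key _ (Fintype.equivFin A) _ _ _

/-- The data for Harish-Chandra induction of cuspidal characters. -/
structure Datum (F : Type*) [Field F] [Fintype F] [DecidableEq F] (n : ℕ) where
  k : ℕ
  c : Fin n → Fin k
  mono : Monotone c
  surj : Function.Surjective c
  sig : ∀ a, IrrCharacter (GL {i // c i = a} F)
  cusp : ∀ a, Cusp (sig a : GL {i // c i = a} F → ℂ)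

namespace Datum

variable {n : ℕ} (D : Datum F n)

instance (a : Fin D.k) : Nonempty {i // D.c i = a} := let ⟨i, hi⟩ := D.surj a; ⟨⟨i, hi⟩⟩

/-- The block at an index. -/
noncomputable def key (a : Fin D.k) : Blk F := mkBlk (D.sig a) (D.cusp a)

/-- The multiset of blocks. -/
noncomputable def blocks : Multiset (Blk F) := Finset.univ.val.map D.key

/-- The inflated character. -/
noncomputable def inflated : par (F := F) D.c → ℂ := infl D.c fun a => (D.sig a : GL {i // D.c i = a} F → ℂ)

/-- The induced character. -/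
noncomputable def ind : GL (Fin n) F → ℂ := indFun (par D.c) D.inflated

theorem inflated_irr : IsIrrCharacter (par (F := F) D.c) D.inflated := isIrr_infl D.c D.sig

theorem inflated_cl : IsClassFunction (par (F := F) D.c) D.inflated :=
  H12.IsCharacter.isClassFunction (H12.isCharacter_of_isIrrCharacter D.inflated_irr)

theorem isCharacter_ind : IsCharacter (GL (Fin n) F) D.ind :=
  H13.isCharacter_indFun (par D.c) (H12.isCharacter_of_isIrrCharacter D.inflated_irr)

end Datum

variable {n : ℕ}

theorem permG_eq_permGL (σ : Equiv.Perm (Fin n)) : (H40.permGL F σ : GL (Fin n) F) = permG σ :=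
  Units.ext (Matrix.ext fun i j => by rw [H40.coe_permGL, H40.permMat, Matrix.of_apply, permG_apply])

theorem permG_mul (σ τ : Equiv.Perm (Fin n)) : (permG (σ * τ) : GL (Fin n) F) = permG σ * permG τ := by
  rw [← permG_eq_permGL, ← permG_eq_permGL, ← permG_eq_permGL, map_mul]

theorem permG_mem_par {k : ℕ} {c : Fin n → Fin k} {x : Equiv.Perm (Fin n)} (h : ∀ i, c (x i) = c i) :
    (permG x : GL (Fin n) F) ∈ par c := by
  refine mem_par.2 fun i j hij => ?_
  rw [permG_apply, if_neg]
  rintro rfl
  rw [h] at hij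
  exact lt_irrefl _ hij

theorem upper_mem_par {k : ℕ} {c : Fin n → Fin k} (hc : Monotone c) {g : GL (Fin n) F}
    (hg : (g : Matrix (Fin n) (Fin n) F).BlockTriangular id) : g ∈ par c :=
  mem_par.2 fun _ _ hij => hg (not_le.1 fun h => not_lt.2 (hc h) hij)

theorem double_coset_perm {k l : ℕ} {c : Fin n → Fin k} {d : Fin n → Fin l} {w w' : Equiv.Perm (Fin n)}
    {a b : GL (Fin n) F} (ha : a ∈ par c) (hb : b ∈ par d) (h : a * permG w * b = permG w') :
    ∃ y x : Equiv.Perm (Fin n), (∀ i, c (y i) = c i) ∧ (∀ j, d (x j) = d j) ∧ w' = y * w * x := by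
  classical
  have hp : ∀ σ : Equiv.Perm (Fin n), (permG σ : GL (Fin n) F).val = H40.permMat F σ := fun σ => by
    ext i j
    rw [permG_apply, H40.permMat, Matrix.of_apply]
  have hbt : ∀ {m : ℕ} {e : Fin n → Fin m} {x : GL (Fin n) F}, x ∈ par e →
      (x : Matrix (Fin n) (Fin n) F).BlockTriangular (fun i : Fin n => (e i).val) := fun hx i j hij =>
    hx (Fin.lt_def.2 hij)
  obtain ⟨y, x, hy, hx, e⟩ := H40.exists_label_perm (fun i => (c i).val) (fun i => (d i).val) w w' (fun s t => by
    apply Nat.pow_right_injective (Fintype.one_lt_card (α := F))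
    simp only
    rw [← H40.card_flagSlice_permMat (fun i => (c i).val) (fun i => (d i).val),
      ← H40.card_flagSlice_permMat (fun i => (c i).val) (fun i => (d i).val), ← hp w', ← h, Units.val_mul,
      Units.val_mul, hp]
    exact (H40.card_flagSlice_mul _ _ _ (hbt ha) (hbt (inv_mem ha)) (hbt hb) (hbt (inv_mem hb)) s t).symm)
  exact ⟨y, x, fun i => Fin.ext (hy i), fun j => Fin.ext (hx j), e⟩

theorem extend_infl_conj {B : Type*} [Fintype B] [DecidableEq B] {l : ℕ} (d : B → Fin l)
    (τ : ∀ a, GL {i // d i = a} F → ℂ) (w : Equiv.Perm B) (g : GL B F) :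
    extendByZero (par d) (infl d τ) ((permG w)⁻¹ * g * permG w) =
      extendByZero (par (d ∘ w.symm)) (infl (d ∘ w.symm)
        (fun a => τ a ∘ reGL (w.symm.subtypeEquiv (p := fun i => d (w.symm i) = a) (q := fun i => d i = a)
          fun _ => Iff.rfl))) g := by
  rw [inv_permG_conj]
  by_cases hg : g ∈ par (d ∘ w.symm)
  · rw [H13.extendByZero_mem _ _ hg, H13.extendByZero_mem _ _ ((reGL_mem_par w.symm d g).2 hg)]
    refine Finset.prod_congr rfl fun a _ => ?_
    show τ a _ = τ a _
    congr 1
  · rw [H13.extendByZero_notMem _ _ hg, H13.extendByZero_notMem]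
    rwa [reGL_mem_par]

open Classical in
/-- Two inductions pair to the number of matchings of their blocks. -/
theorem inner_ind (D E : Datum F n) :
    classInner D.ind E.ind =
      ((univ.filter fun π : Fin D.k ≃ Fin E.k => ∀ a, E.key (π a) = D.key a).card : ℂ) := by
  haveI := Fintype.ofFinite (par (F := F) D.c)
  haveI := Fintype.ofFinite (par (F := F) E.c)
  let P0 : Finset (Fin D.k ≃ Fin E.k) := univ.filter fun π =>
    ∀ a, Fintype.card {i // E.c i = π a} = Fintype.card {i // D.c i = a}
  have hfib : ∀ π : P0, ∀ b, Fintype.card {i // π.1 (D.c i) = b} = Fintype.card {i // E.c i = b} := by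
    intro π b
    have h := (Finset.mem_filter.1 π.2).2 (π.1.symm b)
    rw [Fintype.card_congr (Equiv.subtypeEquivRight (q := fun i => D.c i = π.1.symm b) fun i =>
      (π.1.eq_symm_apply).symm), ← h]
    exact Fintype.card_congr (Equiv.subtypeEquivRight fun i => by rw [Equiv.apply_symm_apply])
  let wπ : P0 → Equiv.Perm (Fin n) := fun π =>
    (Equiv.ofFiberEquiv (f := fun i => π.1 (D.c i)) (g := E.c) fun b => Fintype.equivOfCardEq (hfib π b)).symm
  have hw : ∀ π : P0, E.c ∘ (wπ π).symm = π.1 ∘ D.c := fun π => funext fun i =>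
    Equiv.ofFiberEquiv_map (f := fun i => π.1 (D.c i)) (g := E.c) _ i
  have hwinj : ∀ π π' : P0, ∀ a ∈ par (F := F) D.c, ∀ b ∈ par (F := F) E.c,
      a * permG (wπ π) * b = permG (wπ π') → π = π' := by
    intro π π' a ha b hb he
    obtain ⟨y, x, hy, hx, e⟩ := double_coset_perm ha hb he
    refine Subtype.ext (Equiv.ext fun z => ?_)
    obtain ⟨i, rfl⟩ := D.surj z
    have h1 : ∀ i, E.c ((wπ π').symm i) = π'.1 (D.c i) := fun i => congrFun (hw π') i
    have h2 : ∀ i, E.c ((wπ π).symm i) = π.1 (D.c i) := fun i => congrFun (hw π) i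
    obtain ⟨j, rfl⟩ := (wπ π').surjective i
    have h3 : π'.1 (D.c (wπ π' j)) = E.c j := by rw [← h1, Equiv.symm_apply_apply]
    rw [h3, e]
    simp only [Equiv.Perm.mul_apply, hy]
    rw [← h2, Equiv.symm_apply_apply, hx]
  let W : Finset (GL (Fin n) F) := P0.attach.image fun π => permG (wπ π)
  rw [Datum.ind, Datum.ind, classInner_indFun_eq_reps _ _ D.inflated_cl E.inflated_cl W]
  · rw [Finset.sum_image fun π _ π' _ h => hwinj π π' 1 (one_mem _) 1 (one_mem _) (by rw [one_mul, mul_one]; exact h),
      Finset.natCast_card_filter]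
    rw [← Finset.sum_subset (Finset.subset_univ P0)]
    · rw [← Finset.sum_attach P0 (fun π => if ∀ a, E.key (π a) = D.key a then (1 : ℂ) else 0)]
      refine Finset.sum_congr rfl fun π _ => ?_
      have hc' : E.c ∘ (wπ π).symm = π.1 ∘ D.c := hw π
      have hN : Nat.card {g : GL (Fin n) F // g ∈ par D.c ∧ (permG (wπ π))⁻¹ * g * permG (wπ π) ∈ par E.c} =
          Nat.card (par (F := F) D.c ⊓ par (E.c ∘ (wπ π).symm) : Subgroup (GL (Fin n) F)) := by
        refine Nat.card_congr (Equiv.subtypeEquivRight fun g => ?_)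
        rw [inv_permG_conj, reGL_mem_par, Subgroup.mem_inf]
      rw [hN, Datum.inflated, Datum.inflated, mackeyTerm_par, pairSum_same_blocks _ _ _ _ π.1 hc']
      have hterm : ∀ a, classInner (D.sig a : GL {i // D.c i = a} F → ℂ)
          (((E.sig (π.1 a) : GL {i // E.c i = π.1 a} F → ℂ) ∘
            reGL ((wπ π).symm.subtypeEquiv (p := fun i => E.c ((wπ π).symm i) = π.1 a)
              (q := fun i => E.c i = π.1 a) fun _ => Iff.rfl)) ∘ reGL (fibEquiv π.1 hc' a)) =
          if E.key (π.1 a) = D.key a then 1 else 0 := by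
        intro a
        let e : {i // D.c i = a} ≃ {i // E.c i = π.1 a} := (fibEquiv π.1 hc' a).trans
          ((wπ π).symm.subtypeEquiv (p := fun i => E.c ((wπ π).symm i) = π.1 a)
              (q := fun i => E.c i = π.1 a) fun _ => Iff.rfl)
        have h := H12.classInner_irr (D.sig a) (trIrr e (E.sig (π.1 a)))
        refine Eq.trans h ?_
        refine if_congr ?_ rfl rfl
        rw [eq_comm (a := E.key (π.1 a)), Datum.key, Datum.key, mkBlk_eq_iff _ _ e]
      rw [Finset.prod_congr rfl fun a _ => hterm a, Finset.prod_boole]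
      simp
    · intro π _ hπ
      rw [if_neg]
      intro h
      refine hπ (Finset.mem_filter.2 ⟨Finset.mem_univ _, fun a => ?_⟩)
      exact congrArg (fun b : Blk F => b.1) (h a)
  · intro x hx
    obtain ⟨b₁, b₂, σ, h1, h2, rfl⟩ := H40.exists_bruhat x
    have hb1 := upper_mem_par D.mono h1
    have hb2 := upper_mem_par E.mono h2
    rw [permG_eq_permGL, mackeyTerm_mul _ _ D.inflated_cl E.inflated_cl ⟨b₁, hb1⟩ ⟨b₂, hb2⟩, Datum.inflated,
      Datum.inflated, mackeyTerm_par] at hx
    have hcE : ∀ a, IsCharacter _ (E.sig a : GL {i // E.c i = a} F → ℂ) := fun a => H12.isCharacter_irr _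
    have key1 : ∀ i j, D.c i = D.c j → E.c (σ.symm i) = E.c (σ.symm j) := by
      intro i j hij
      by_contra hne
      exact hx (pairSum_eq_zero D.c _ (fun a => H12.isCharacter_irr _) D.cusp _ _ hij hne)
    have key2 : ∀ i j, E.c (σ.symm i) = E.c (σ.symm j) → D.c i = D.c j := by
      intro i j hij
      by_contra hne
      refine hx ?_
      rw [pairSum_swap]
      refine (congrArg conj (pairSum_eq_zero (E.c ∘ σ.symm)
        (fun a => (trIrr (σ.symm.subtypeEquiv (p := fun i => E.c (σ.symm i) = a) (q := fun i => E.c i = a)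
          fun _ => Iff.rfl) (E.sig a) : GL {i // E.c (σ.symm i) = a} F → ℂ))
        (fun a => H12.isCharacter_irr _) (fun a => (E.cusp a).comp_reGL _) D.c _ hij hne)).trans (map_zero _)
    let π : Fin D.k ≃ Fin E.k :=
      { toFun := fun a => E.c (σ.symm (D.surj a).choose)
        invFun := fun b => D.c (σ (E.surj b).choose)
        left_inv := fun a => by
          refine ((key2 (σ (E.surj _).choose) (D.surj a).choose ?_).trans (D.surj a).choose_spec)
          rw [Equiv.symm_apply_apply]
          exact (E.surj _).choose_spec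
        right_inv := fun b => by
          refine ((key1 (D.surj _).choose (σ (E.surj b).choose) (D.surj _).choose_spec).trans ?_)
          rw [Equiv.symm_apply_apply]
          exact (E.surj b).choose_spec }
    have hπ : ∀ i, E.c (σ.symm i) = π (D.c i) := fun i =>
      key1 i _ (D.surj (D.c i)).choose_spec.symm
    have hπ0 : π ∈ P0 := by
      refine Finset.mem_filter.2 ⟨Finset.mem_univ _, fun a => Fintype.card_congr ?_⟩
      refine σ.subtypeEquiv fun i => ?_
      have := hπ (σ i)
      rw [Equiv.symm_apply_apply] at this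
      rw [this, π.injective.eq_iff]
    refine ⟨permG (wπ ⟨π, hπ0⟩), Finset.mem_image.2 ⟨⟨π, hπ0⟩, Finset.mem_attach _ _, rfl⟩, b₁, hb1,
      permG ((wπ ⟨π, hπ0⟩)⁻¹ * σ) * b₂, mul_mem (permG_mem_par fun i => ?_) hb2, ?_⟩
    · have := congrFun (hw ⟨π, hπ0⟩) (σ i)
      simp only [Function.comp_apply] at this
      show E.c ((wπ ⟨π, hπ0⟩).symm (σ i)) = E.c i
      rw [this, ← hπ, Equiv.symm_apply_apply]
    · rw [← mul_assoc (b₁ * permG _), mul_assoc b₁ (permG _) (permG _), ← permG_mul, mul_inv_cancel_left,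
        permG_eq_permGL]
  · intro w hw' w' hw'' a ha b hb he
    obtain ⟨π, -, rfl⟩ := Finset.mem_image.1 hw'
    obtain ⟨π', -, rfl⟩ := Finset.mem_image.1 hw''
    rw [hwinj π π' a ha b hb he]

/-- A cuspidal character is generic. -/
theorem gen_cusp {η : AddChar F ℂ} (hη : η ≠ 1) {d : ℕ} (hd : 0 < d) (χ : IrrCharacter (GL (Fin d) F))
    (h : Cusp (χ : GL (Fin d) F → ℂ)) : gen η (χ : GL (Fin d) F → ℂ) = 1 := by
  refine (gen_zero_or_one hη χ.2).resolve_left fun h0 => H12.irr_apply_one_ne_zero χ ?_
  rw [cusp_degree hη (H12.isCharacter_irr χ) h hd, h0, zero_mul]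

/-- An induction pairs to one with the Gelfand–Graev character. -/
theorem inner_gamma {η : AddChar F ℂ} (hη : η ≠ 1) (D : Datum F n) :
    classInner (gamma η (Fin n)) D.ind = 1 := by
  classical
  haveI := Fintype.ofFinite (UT (Fin n) F)
  haveI := Fintype.ofFinite (par (F := F) D.c)
  set U := UT (Fin n) F
  have hcl : IsClassFunction U (psiU η) := fun u x => by
    rw [map_mul, map_mul, mul_right_comm, ← map_mul, mul_inv_cancel, map_one, one_mul]
  let w₀ : Equiv.Perm (Fin n) := Fin.revPerm
  rw [gamma, Datum.ind, classInner_indFun_eq_reps U _ hcl D.inflated_cl {permG w₀}]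
  · set c' : Fin n → Fin D.k := D.c ∘ w₀.symm with hc'
    have hanti : ∀ i j, i ≤ j → c' j ≤ c' i := fun i j hij => D.mono (Fin.rev_le_rev.2 hij)
    set τ : ∀ a, GL {i // c' i = a} F → ℂ := fun a => (D.sig a : GL {i // D.c i = a} F → ℂ) ∘
      reGL (w₀.symm.subtypeEquiv (p := fun i => D.c (w₀.symm i) = a) (q := fun i => D.c i = a) fun _ => Iff.rfl)
    rw [Finset.sum_singleton]
    set H := U ⊓ par c' with hH
    have hN : Nat.card {g : GL (Fin n) F // g ∈ U ∧ (permG w₀)⁻¹ * g * permG w₀ ∈ par D.c} = Nat.card H := by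
      refine Nat.card_congr (Equiv.subtypeEquivRight fun g => ?_)
      rw [inv_permG_conj, reGL_mem_par, hH, Subgroup.mem_inf]
    have hzero : ∀ g : GL (Fin n) F, g ∈ H → ∀ i j, c' i ≠ c' j → (g : Matrix (Fin n) (Fin n) F) i j = 0 := by
      intro g hg i j hne
      rcases lt_or_ge j i with hji | hij
      · exact (mem_UT.1 hg.1).1 i j hji
      · exact mem_par.1 hg.2 i j (lt_of_le_of_ne (hanti i j hij) (Ne.symm hne))
    let blk : H → ∀ a, UT {i // c' i = a} F := fun g a =>
      ⟨proj c' ⟨g.1, g.2.2⟩ a, mem_UT.2 ⟨fun i j hij => (mem_UT.1 g.2.1).1 i.1 j.1 hij, fun i => (mem_UT.1 g.2.1).2 i.1⟩⟩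
    let e : H ≃ ∀ a, UT {i // c' i = a} F :=
      { toFun := blk
        invFun := fun x => ⟨incl c' fun a => (x a).1, by
          refine mem_UT.2 ⟨fun i j hij => ?_, fun i => ?_⟩
          · rw [incl_apply]
            split_ifs with h
            · exact (mem_UT.1 (x (c' i)).2).1 ⟨i, rfl⟩ ⟨j, h⟩ hij
            · rfl
          · rw [incl_apply, dif_pos rfl]
            exact (mem_UT.1 (x (c' i)).2).2 _, incl_mem c' c' (fun _ _ h => h) _⟩
        left_inv := fun g => Subtype.ext (Units.ext (Matrix.ext fun i j => by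
          rw [incl_apply]
          split_ifs with h
          · rfl
          · exact (hzero g.1 g.2 i j (Ne.symm h)).symm))
        right_inv := fun x => funext fun a => Subtype.ext (congrFun (proj_incl c' _) a) }
    have hsup : ∀ g : H, supSum (g : GL (Fin n) F) = ∑ a, supSum (blk g a : GL {i // c' i = a} F) := by
      intro g
      simp only [supSum, Finset.sum_filter, Fintype.sum_prod_type]
      rw [← Fintype.sum_fiberwise c']
      refine Finset.sum_congr rfl fun a _ => Finset.sum_congr rfl fun i _ => ?_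
      rw [← Finset.sum_subset (Finset.subset_univ (univ.filter fun j => c' j = a))]
      · rw [Finset.sum_subtype (univ.filter fun j => c' j = a) (p := fun j => c' j = a) (by simp)]
        refine Finset.sum_congr rfl fun j _ => ?_
        have hiff : i.1 ⋖ j.1 ↔ i ⋖ j := by
          constructor
          · exact fun h => ⟨h.1, fun z hz hz' => h.2 (c := z.1) hz hz'⟩
          · refine fun h => ⟨h.1, fun z hz hz' => ?_⟩
            have hz1 := hanti i.1 z hz.le
            have hz2 := hanti z j.1 hz'.le
            rw [i.2] at hz1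
            rw [j.2] at hz2
            exact h.2 (c := ⟨z, le_antisymm hz1 hz2⟩) hz hz'
        simp only [hiff]
        rfl
      · intro j _ hj
        simp only [Finset.mem_filter, Finset.mem_univ, true_and] at hj
        split_ifs
        · exact hzero g.1 g.2 i.1 j (by rw [i.2]; exact Ne.symm hj)
        · rfl
    have hM : mackeyTerm U (par D.c) (psiU η) D.inflated (permG w₀) =
        ∑ g : H, η (supSum (g : GL (Fin n) F)) * conj (∏ a, τ a (proj c' (⟨g.1, g.2.2⟩ : par c') a)) := by
      rw [mackeyTerm, Datum.inflated]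
      simp only [extend_infl_conj]
      rw [← sum_ite_subgroup H (fun g => extendByZero U (psiU η) g * conj (extendByZero (par c') (infl c' τ) g))
        |>.trans (Finset.sum_congr rfl fun g _ => by
          rw [H13.extendByZero_mem _ _ g.2.1, H13.extendByZero_mem _ _ g.2.2]; rfl)]
      refine Finset.sum_congr rfl fun g _ => ?_
      split_ifs with hg
      · rfl
      · rw [hH, Subgroup.mem_inf, not_and_or] at hg
        rcases hg with hg | hg
        · rw [H13.extendByZero_notMem _ _ hg, zero_mul]
        · show extendByZero U (psiU η) g * conj (extendByZero (par c') (infl c' τ) g) = 0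
          rw [H13.extendByZero_notMem _ _ hg, map_zero, mul_zero]
    have hgen : ∀ a, (∑ u : UT {i // c' i = a} F, η (supSum (u : GL {i // c' i = a} F)) *
        conj (τ a u)) = Nat.card (UT {i // c' i = a} F) := by
      intro a
      haveI : Nonempty {i // c' i = a} := by
        obtain ⟨i, hi⟩ := D.surj a
        exact ⟨⟨w₀ i, by show D.c (w₀.symm (w₀ i)) = a; rw [Equiv.symm_apply_apply, hi]⟩⟩
      let oe : Fin (Fintype.card {i // c' i = a}) ≃o {i // c' i = a} := monoEquivOfFin _ rfl
      let χ : IrrCharacter (GL {i // c' i = a} F) := trIrr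
        (w₀.symm.subtypeEquiv (p := fun i => D.c (w₀.symm i) = a) (q := fun i => D.c i = a) fun _ => Iff.rfl)
        (D.sig a)
      have h1 : gen η (τ a) = 1 := by
        rw [← gen_reGL η (τ a) oe]
        exact gen_cusp hη Fintype.card_pos (trIrr oe.toEquiv χ) (((D.cusp a).comp_reGL _).comp_reGL _)
      have h2 : conj (gen η (τ a)) = 1 := by rw [h1, map_one]
      rw [gen, map_mul, map_inv₀, map_natCast, inv_mul_eq_iff_eq_mul₀ (Nat.cast_ne_zero.2 Nat.card_pos.ne'), mul_one,
        sum_ite_subgroup, map_sum] at h2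
      rw [← h2]
      refine Finset.sum_congr rfl fun u _ => ?_
      rw [map_mul, conj_addChar, neg_neg, mul_comm]
    rw [hN, hM, Nat.card_congr e, Nat.card_pi, Nat.cast_prod]
    have hprod : ∀ g : H, η (supSum (g : GL (Fin n) F)) * conj (∏ a, τ a (proj c' (⟨g.1, g.2.2⟩ : par c') a)) =
        ∏ a, (η (supSum (blk g a : GL {i // c' i = a} F)) * conj (τ a (blk g a))) := by
      intro g
      rw [hsup, Finset.prod_mul_distrib, map_prod]
      congr 1
      refine (map_prod η.toMonoidHom (fun a => Multiplicative.ofAdd (supSum (blk g a : GL {i // c' i = a} F)))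
        Finset.univ).symm.trans ?_ |>.symm
      rw [← ofAdd_sum]
      rfl
    rw [Finset.sum_congr rfl fun g _ => hprod g,
      Fintype.sum_equiv e (fun g => ∏ a, (η (supSum (blk g a : GL {i // c' i = a} F)) * conj (τ a (blk g a)))) (fun x => ∏ a, (η (supSum (x a : GL {i // c' i = a} F)) * conj (τ a (x a)))) (fun g => rfl),
      ← Fintype.prod_sum (fun a (u : UT {i // c' i = a} F) => η (supSum (u : GL {i // c' i = a} F)) * conj (τ a u)),
      Finset.prod_congr rfl fun a _ => hgen a, div_self]
    exact Finset.prod_ne_zero_iff.2 fun a _ => Nat.cast_ne_zero.2 Nat.card_pos.ne'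
  · intro x hx
    obtain ⟨b₁, b₂, σ, h1, h2, rfl⟩ := H40.exists_bruhat x
    obtain ⟨t, -, u, -, hu, -, e1⟩ := upper_decomp b₁ h1
    have ht : diagG (fun i => t (σ i)) ∈ par D.c := upper_mem_par D.mono (Matrix.blockTriangular_diagonal _)
    have hb2 := upper_mem_par D.mono h2
    have e2 : diagG t * permG σ = permG σ * diagG (fun i => t (σ i)) := by
      refine Units.ext (Matrix.ext fun i j => ?_)
      rw [diagG_mul_apply, mul_diagG_apply, permG_apply]
      split_ifs with h
      · rw [h]; simp
      · simp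
    have e3 : b₁ * H40.permGL F σ * b₂ = u * permG σ * (diagG (fun i => t (σ i)) * b₂) := by
      rw [permG_eq_permGL, e1, mul_assoc u, e2]; group
    rw [e3, mackeyTerm_mul _ _ hcl D.inflated_cl ⟨u, hu⟩ ⟨_, mul_mem ht hb2⟩] at hx
    have hanti : Antitone (D.c ∘ σ.symm) := by
      rcases Nat.eq_zero_or_pos n with rfl | hn
      · exact fun i => i.elim0
      obtain ⟨m, rfl⟩ : ∃ m, n = m + 1 := ⟨n - 1, by omega⟩
      refine Fin.antitone_iff_succ_le.2 fun i => ?_
      by_contra hlt
      rw [not_le] at hlt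
      refine hx ?_
      obtain ⟨x₀, hx₀⟩ : ∃ z, η z ≠ 1 := by
        by_contra hc
        push Not at hc
        exact hη (DFunLike.ext _ _ fun z => by rw [hc z, AddChar.one_apply])
      have hij : i.castSucc < i.succ := Fin.castSucc_lt_succ
      set v := transG i.castSucc i.succ hij.ne x₀ with hv
      have hvU : v ∈ U := transG_mem_UT _ _ hij x₀
      have hvR : v ∈ rad (D.c ∘ σ.symm) := by
        refine mem_rad.2 ⟨fun a b hab => ?_, fun a b hab => ?_⟩
        · rw [hv, transG_apply, if_neg (fun e => hab.ne (by rw [e])), if_neg, add_zero]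
          rintro ⟨rfl, rfl⟩
          exact lt_asymm hab hlt
        · rw [hv, transG_apply, Matrix.one_apply, add_eq_left, if_neg]
          rintro ⟨rfl, rfl⟩
          exact hlt.ne hab
      set M := mackeyTerm U (par D.c) (psiU η) D.inflated (permG σ) with hMdef
      have hshift : M = η x₀ * M := by
        simp only [hMdef, mackeyTerm, Finset.mul_sum, Datum.inflated, extend_infl_conj]
        refine (Fintype.sum_equiv (Equiv.mulRight v) _ _ fun g => ?_).symm
        simp only [Equiv.coe_mulRight]
        set τ' : ∀ a, GL {i // (D.c ∘ σ.symm) i = a} F → ℂ := fun a => (D.sig a : GL {i // D.c i = a} F → ℂ) ∘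
          reGL (σ.symm.subtypeEquiv (p := fun i => D.c (σ.symm i) = a) (q := fun i => D.c i = a) fun _ => Iff.rfl)
        have e4 : extendByZero U (psiU η) (g * v) = extendByZero U (psiU η) g * η x₀ := by
          by_cases hg : g ∈ U
          · rw [H13.extendByZero_mem _ _ hg, H13.extendByZero_mem _ _ (mul_mem hg hvU)]
            refine (map_mul (psiU η) ⟨g, hg⟩ ⟨v, hvU⟩).trans ?_
            congr 1
            show η (supSum v) = η x₀
            rw [hv, supSum_transG _ _ hij, if_pos (by simp)]
          · rw [H13.extendByZero_notMem _ _ hg, H13.extendByZero_notMem _ _ fun h => hg (by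
              simpa using mul_mem h (inv_mem hvU)), zero_mul]
        obtain ⟨r, hr, hre⟩ := hvR
        have e5 : extendByZero (par (D.c ∘ σ.symm)) (infl (D.c ∘ σ.symm) τ') (g * v) =
            extendByZero (par (D.c ∘ σ.symm)) (infl (D.c ∘ σ.symm) τ') g := by
          rw [← hre]
          show extendByZero _ _ (g * (par (D.c ∘ σ.symm)).subtype r) = _
          rw [Subgroup.coe_subtype]
          by_cases hg : g ∈ par (D.c ∘ σ.symm)
          · rw [H13.extendByZero_mem _ _ hg, H13.extendByZero_mem _ _ (mul_mem hg r.2)]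
            refine Finset.prod_congr rfl fun a _ => congrArg (τ' a) ?_
            have : proj (D.c ∘ σ.symm) ⟨g * (r : GL (Fin (m + 1)) F), mul_mem hg r.2⟩ = proj (D.c ∘ σ.symm) ⟨g, hg⟩ * proj (D.c ∘ σ.symm) r :=
              map_mul (proj (D.c ∘ σ.symm)) ⟨g, hg⟩ r
            exact congrFun (this.trans (by rw [MonoidHom.mem_ker.1 hr, mul_one])) a
          · rw [H13.extendByZero_notMem _ _ hg, H13.extendByZero_notMem]
            exact fun h => hg (by simpa using mul_mem h (inv_mem r.2))
        rw [e4, e5]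
        ring
      have h0 : (η x₀ - 1) * M = 0 := by rw [sub_mul, one_mul, ← hshift, sub_self]
      exact (mul_eq_zero.1 h0).resolve_left (sub_ne_zero.2 hx₀)
    have hm1 : Monotone (D.c ∘ (σ.symm * Fin.revPerm : Equiv.Perm (Fin n))) := fun i j hij =>
      hanti (Fin.rev_le_rev.2 hij)
    have hm2 : Monotone (D.c ∘ (1 : Equiv.Perm (Fin n))) := D.mono
    have heq := Tuple.unique_monotone hm1 hm2
    refine ⟨permG w₀, Finset.mem_singleton_self _, u, hu,
      permG (w₀⁻¹ * σ) * (diagG (fun i => t (σ i)) * b₂), mul_mem (permG_mem_par fun i => ?_) (mul_mem ht hb2), ?_⟩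
    · have := congrFun heq (Fin.rev (σ i))
      simp only [Function.comp_apply, Equiv.Perm.mul_apply, Fin.revPerm_apply, Fin.rev_rev,
        Equiv.symm_apply_apply, Equiv.Perm.one_apply] at this
      exact this.symm
    · rw [e3, ← mul_assoc (u * permG w₀), mul_assoc u (permG w₀), ← permG_mul, mul_inv_cancel_left]
  · intro w hw w' hw' a _ b _ _
    rw [Finset.mem_singleton.1 hw, Finset.mem_singleton.1 hw']

end H17.GLC
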