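import Cfsg.Agent.H17.GLCusp.Block

/-!
The unitriangular group with its generic linear character, and the degree of a cuspidal character.
-/

set_option autoImplicit false
set_option linter.unusedSectionVars false
set_option linter.style.haveILetI false

namespace H17.GLC

open Cfsg Finset
open scoped ComplexConjugate

variable {F : Type*} [Field F] [Fintype F] [DecidableEq F]

section Order

variable {B : Type*} [Fintype B] [DecidableEq B] [LinearOrder B]

/-- Upper unitriangular matrices. -/
def UT (B : Type*) [Fintype B] [DecidableEq B] [LinearOrder B] (F : Type*) [Field F] [Fintype F] [DecidableEq F] :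
    Subgroup (GL B F) := rad (id : B → B)

theorem mem_UT {g : GL B F} :
    g ∈ UT B F ↔ (∀ i j, j < i → (g : Matrix B B F) i j = 0) ∧ ∀ i, (g : Matrix B B F) i i = 1 := by
  rw [UT, mem_rad]
  constructor
  · rintro ⟨h1, h2⟩
    exact ⟨h1, fun i => by rw [h2 i i rfl, Matrix.one_apply_eq]⟩
  · rintro ⟨h1, h2⟩
    refine ⟨h1, fun i j hij => ?_⟩
    obtain rfl : i = j := hij
    rw [h2, Matrix.one_apply_eq]

open Classical in
/-- The sum of the entries just above the diagonal. -/
noncomputable def supSum (g : GL B F) : F :=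
  ∑ p ∈ univ.filter (fun p : B × B => p.1 ⋖ p.2), (g : Matrix B B F) p.1 p.2

theorem supSum_mul {u v : GL B F} (hu : u ∈ UT B F) (hv : v ∈ UT B F) :
    supSum (u * v) = supSum u + supSum v := by
  classical
  obtain ⟨u1, u2⟩ := mem_UT.1 hu
  obtain ⟨v1, v2⟩ := mem_UT.1 hv
  simp only [supSum, ← Finset.sum_add_distrib]
  refine Finset.sum_congr rfl fun p hp => ?_
  have hp' : p.1 ⋖ p.2 := (Finset.mem_filter.1 hp).2
  rw [Units.val_mul, Matrix.mul_apply, ← Finset.sum_subset (Finset.subset_univ {p.1, p.2}) ?_,
    Finset.sum_pair hp'.lt.ne, u2, v2, one_mul, mul_one, add_comm]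
  intro l _ hl
  simp only [Finset.mem_insert, Finset.mem_singleton, not_or] at hl
  rcases lt_trichotomy l p.1 with h | h | h
  · rw [u1 _ _ h, zero_mul]
  · exact absurd h hl.1
  · have : ¬ l < p.2 := fun h' => hp'.2 h h'
    rw [v1 _ _ (lt_of_le_of_ne (not_lt.1 this) (Ne.symm hl.2)), mul_zero]

theorem supSum_one : supSum (1 : GL B F) = 0 := by
  classical
  refine Finset.sum_eq_zero fun p hp => ?_
  have hne : p.1 ≠ p.2 := ((Finset.mem_filter.1 hp).2).lt.ne
  rw [Units.val_one, Matrix.one_apply_ne hne]

/-- The generic linear character. -/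
noncomputable def psiU (η : AddChar F ℂ) : UT B F →* ℂ where
  toFun u := η (supSum (u : GL B F))
  map_one' := by rw [OneMemClass.coe_one, supSum_one, AddChar.map_zero_eq_one]
  map_mul' u v := by rw [Subgroup.coe_mul, supSum_mul u.2 v.2, AddChar.map_add_eq_mul]

open Classical in
/-- The multiplicity of the generic character. -/
noncomputable def gen (η : AddChar F ℂ) (χ : GL B F → ℂ) : ℂ :=
  (Nat.card (UT B F) : ℂ)⁻¹ * ∑ g : GL B F, if g ∈ UT B F then χ g * η (-supSum g) else 0

theorem psiU_inv (η : AddChar F ℂ) (u : UT B F) : psiU η u⁻¹ = η (-supSum (u : GL B F)) := by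
  have h : supSum ((u⁻¹ : UT B F) : GL B F) + supSum (u : GL B F) = 0 := by
    rw [← supSum_mul (u⁻¹).2 u.2, Subgroup.coe_inv, inv_mul_cancel, supSum_one]
  show η (supSum ((u⁻¹ : UT B F) : GL B F)) = _
  rw [eq_neg_of_add_eq_zero_left h]

theorem conj_addChar (η : AddChar F ℂ) (x : F) : conj (η x) = η (-x) := by
  rw [AddChar.map_neg_eq_conj]

theorem gen_eq (η : AddChar F ℂ) [Fintype (UT B F)] (χ : GL B F → ℂ) :
    gen η χ = classInner (fun u : UT B F => χ u) (psiU η) := by
  classical
  rw [gen, sum_ite_subgroup, H12.classInner_def]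
  congr 1
  refine Finset.sum_congr rfl fun u _ => ?_
  rw [← conj_addChar]
  rfl

theorem gen_eq_ind (η : AddChar F ℂ) {χ : GL B F → ℂ} (hχ : IsClassFunction (GL B F) χ) :
    gen η χ = classInner χ (indFun (UT B F) (psiU η)) := by
  classical
  haveI := Fintype.ofFinite (UT B F)
  rw [gen_eq, H13.classInner_indFun_right (UT B F) (psiU η) hχ]

end Order

theorem exists_addChar_ne_one : ∃ η : AddChar F ℂ, η ≠ 1 := by
  obtain ⟨η, hη⟩ := (AddChar.exists_apply_ne_zero (α := F) (a := 1)).2 one_ne_zero
  exact ⟨η, fun h => hη (by rw [h, AddChar.one_apply])⟩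

theorem sum_addChar_mul {η : AddChar F ℂ} (hη : η ≠ 1) (x : F) :
    ∑ a : F, η (a * x) = if x = 0 then (Fintype.card F : ℂ) else 0 := by
  split_ifs with h
  · simp [h]
  · rw [← AddChar.sum_eq_zero_of_ne_one hη]
    exact Fintype.sum_equiv (Equiv.mulRight₀ x h) _ _ fun a => rfl

theorem sum_addChar_dot {η : AddChar F ℂ} (hη : η ≠ 1) {A : Type*} [Fintype A] [DecidableEq A] (x : A → F) :
    ∑ a : A → F, η (-(∑ i, a i * x i)) = if x = 0 then (Fintype.card F : ℂ) ^ Fintype.card A else 0 := by
  have e : ∀ a : A → F, η (-(∑ i, a i * x i)) = ∏ i, η (a i * -x i) := fun a => by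
    rw [← Finset.sum_neg_distrib]
    refine (map_prod η.toMonoidHom (fun i => Multiplicative.ofAdd (-(a i * x i))) Finset.univ).trans ?_
    simp [mul_neg]
  simp only [e]
  rw [← Fintype.prod_sum (fun i (b : F) => η (b * -x i))]
  simp only [sum_addChar_mul hη, neg_eq_zero]
  split_ifs with h
  · simp [h, Finset.prod_const, Finset.card_univ]
  · obtain ⟨i, hi⟩ := Function.ne_iff.1 h
    exact Finset.prod_eq_zero (Finset.mem_univ i) (if_neg hi)

section Degree

variable {n : ℕ}

/-- Labelling for the group `U_k`. -/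
def labU (k : ℕ) (i : Fin n) : ℕ := if i.val < k then 0 else i.val + 1

/-- Labelling with two blocks of sizes `k` and `n - k`. -/
def lab2 (k : ℕ) (i : Fin n) : Fin 2 := if i.val < k then 0 else 1

/-- Unitriangular matrices trivial in the first `k` columns. -/
def colU (F : Type*) [Field F] [Fintype F] [DecidableEq F] (n k : ℕ) : Subgroup (GL (Fin n) F) :=
  rad (labU (n := n) k)

theorem mem_colU {k : ℕ} {g : GL (Fin n) F} : g ∈ colU F n k ↔
    ∀ i j : Fin n, (j ≤ i ∨ j.val < k) → (g : Matrix (Fin n) (Fin n) F) i j = (1 : Matrix (Fin n) (Fin n) F) i j := by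
  rw [colU, mem_rad]
  constructor
  · rintro ⟨h1, h2⟩ i j hij
    by_cases hl : labU k i = labU k j
    · exact h2 i j hl
    · have hne : i ≠ j := fun e => hl (by rw [e])
      rw [Matrix.one_apply_ne hne]
      refine h1 i j ?_
      have hne' : i.val ≠ j.val := fun e => hne (Fin.ext e)
      unfold labU at hl ⊢
      rcases hij with h | h
      · have h' : j.val ≤ i.val := h
        split_ifs at hl ⊢ <;> omega
      · split_ifs at hl ⊢ <;> omega
  · intro h
    refine ⟨fun i j hij => ?_, fun i j hij => h i j ?_⟩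
    · have hne : i ≠ j := fun e => hij.ne (by rw [e])
      rw [h i j ?_, Matrix.one_apply_ne hne]
      unfold labU at hij
      split_ifs at hij with a b b
      · exact absurd hij (lt_irrefl _)
      · exact Or.inr a
      · exact absurd hij (by omega)
      · exact Or.inl (Fin.le_def.2 (by omega))
    · unfold labU at hij
      split_ifs at hij with a b b
      · exact Or.inr b
      · exact Or.inl (Fin.le_def.2 (by omega))

/-- The partial sum of the entries above the diagonal. -/
def colSum (k : ℕ) (g : GL (Fin n) F) : F :=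
  ∑ p ∈ univ.filter (fun p : Fin n × Fin n => p.2.val = p.1.val + 1 ∧ k ≤ p.2.val),
    (g : Matrix (Fin n) (Fin n) F) p.1 p.2

open Classical in
/-- The unnormalised multiplicity of the character of `U_k`. -/
noncomputable def colMult (η : AddChar F ℂ) (χ : GL (Fin n) F → ℂ) (k : ℕ) : ℂ :=
  ∑ g : GL (Fin n) F, if g ∈ colU F n k then χ g * η (-colSum k g) else 0

theorem card_colU (k : ℕ) : Nat.card (colU F n k) =
    Fintype.card F ^ (univ.filter fun p : Fin n × Fin n => p.1 < p.2 ∧ k ≤ p.2.val).card := by
  classical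
  rw [← Fintype.card_subtype, ← Fintype.card_fun, ← Nat.card_eq_fintype_card]
  let M : ({p : Fin n × Fin n // p.1 < p.2 ∧ k ≤ p.2.val} → F) → Matrix (Fin n) (Fin n) F := fun f =>
    Matrix.of fun i j => if h : i < j ∧ k ≤ j.val then f ⟨(i, j), h⟩ else (1 : Matrix (Fin n) (Fin n) F) i j
  have hdet : ∀ f, (M f).det = 1 := by
    intro f
    have hM : (M f).BlockTriangular id := by
      intro i j hij
      simp only [M, Matrix.of_apply]
      rw [dif_neg fun h => lt_asymm h.1 hij, Matrix.one_apply_ne (show i ≠ j from ne_of_gt hij)]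
    rw [Matrix.det_of_isUpperTriangular hM]
    refine Finset.prod_eq_one fun i _ => ?_
    simp only [M, Matrix.of_apply]
    rw [dif_neg fun h => lt_irrefl _ h.1, Matrix.one_apply_eq]
  have hu : ∀ f, IsUnit (M f) := fun f => (Matrix.isUnit_iff_isUnit_det _).2 (by rw [hdet]; exact isUnit_one)
  refine Nat.card_congr
    { toFun := fun u p => ((u : GL (Fin n) F) : Matrix (Fin n) (Fin n) F) p.1.1 p.1.2
      invFun := fun f => ⟨(hu f).unit, mem_colU.2 fun i j hij => ?_⟩
      left_inv := fun u => Subtype.ext (Units.ext (Matrix.ext fun i j => ?_))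
      right_inv := fun f => funext fun p => ?_ }
  · show (M f) i j = _
    simp only [M, Matrix.of_apply]
    rw [dif_neg]
    rintro ⟨h1, h2⟩
    rcases hij with h | h
    · exact absurd h1 (not_lt.2 h)
    · omega
  · show (M fun p => ((u : GL (Fin n) F) : Matrix (Fin n) (Fin n) F) p.1.1 p.1.2) i j = _
    simp only [M, Matrix.of_apply]
    split_ifs with h
    · rfl
    · refine ((mem_colU.1 u.2) i j ?_).symm
      rw [not_and_or, not_lt, not_le] at h
      exact h
  · show (M f) p.1.1 p.1.2 = f p
    simp only [M, Matrix.of_apply]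
    rw [dif_pos p.2]

theorem card_colU_succ {k : ℕ} (hk : k < n) :
    (Nat.card (colU F n k) : ℂ) = (Fintype.card F : ℂ) ^ k * Nat.card (colU F n (k + 1)) := by
  rw [card_colU, card_colU, ← Nat.cast_pow, ← Nat.cast_mul, ← pow_add]
  congr 2
  have h1 : (univ.filter fun p : Fin n × Fin n => p.1 < p.2 ∧ k ≤ p.2.val) =
      (univ.filter fun p : Fin n × Fin n => p.1 < p.2 ∧ k + 1 ≤ p.2.val) ∪
        (univ.filter fun p : Fin n × Fin n => p.1.val < k ∧ p.2.val = k) := by
    ext p
    simp only [Finset.mem_filter, Finset.mem_univ, true_and, Finset.mem_union, Fin.lt_def]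
    omega
  rw [h1, Finset.card_union_of_disjoint, add_comm]
  · congr 1
    rw [show (univ.filter fun p : Fin n × Fin n => p.1.val < k ∧ p.2.val = k) =
      (univ.filter fun i : Fin n => i.val < k) ×ˢ ({⟨k, hk⟩} : Finset (Fin n)) by
        ext ⟨a, b⟩
        simp [Fin.ext_iff]
        exact ⟨fun h => ⟨a, h.1, rfl, h.2.symm⟩, fun ⟨c, h, e, e'⟩ => ⟨e ▸ h, e'.symm⟩⟩, Finset.card_product, Finset.card_singleton, mul_one, Fin.card_filter_val_lt]
    omega
  · rw [Finset.disjoint_left]
    intro p hp hp'
    simp only [Finset.mem_filter] at hp hp'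
    omega

/-- One step down the mirabolic chain. -/
theorem colMult_step {η : AddChar F ℂ} (hη : η ≠ 1) {χ : GL (Fin n) F → ℂ}
    (hχ : IsCharacter (GL (Fin n) F) χ) (hcu : Cusp χ) {k : ℕ} (hk1 : 1 ≤ k) (hkn : k < n) :
    (Fintype.card F : ℂ) ^ k * colMult η χ (k + 1) = ((Fintype.card F : ℂ) ^ k - 1) * colMult η χ k := by
  classical
  set A := {i : Fin n // lab2 k i = 0} with hA
  set kk : Fin n := ⟨k, hkn⟩ with hkk
  have hAlt : ∀ i : Fin n, lab2 k i = 0 ↔ i.val < k := by
    intro i
    unfold lab2
    split_ifs with h <;> simp [h]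
  have hcA : Fintype.card A = k := by
    rw [Fintype.card_subtype]
    simp only [hAlt, Fin.card_filter_val_lt]
    omega
  let x : GL (Fin n) F → A → F := fun u i => (u : Matrix (Fin n) (Fin n) F) i.1 kk
  let T : (A → F) → ℂ := fun a =>
    ∑ g : GL (Fin n) F, if g ∈ colU F n k then χ g * η (-colSum (k + 1) g) * η (-(∑ i, a i * x g i)) else 0
  have hmem : ∀ g, (g ∈ colU F n k ∧ x g = 0) ↔ g ∈ colU F n (k + 1) := by
    intro g
    constructor
    · rintro ⟨hg, hx⟩
      refine mem_colU.2 fun i j hij => ?_
      rcases hij with h | h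
      · exact mem_colU.1 hg i j (Or.inl h)
      · rcases Nat.lt_succ_iff_lt_or_eq.1 h with h | h
        · exact mem_colU.1 hg i j (Or.inr h)
        · obtain rfl : j = kk := Fin.ext h
          rcases le_or_gt kk i with h' | h'
          · exact mem_colU.1 hg i kk (Or.inl h')
          · rw [Matrix.one_apply_ne h'.ne]
            exact congrFun hx ⟨i, (hAlt i).2 h'⟩
    · intro hg
      refine ⟨mem_colU.2 fun i j hij => mem_colU.1 hg i j (hij.imp_right fun h => Nat.lt_succ_of_lt h),
        funext fun i => ?_⟩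
      show (g : Matrix (Fin n) (Fin n) F) i.1 kk = 0
      rw [mem_colU.1 hg i.1 kk (Or.inr (Nat.lt_succ_self k)), Matrix.one_apply_ne]
      intro e
      have := (hAlt i.1).1 i.2
      rw [e] at this
      exact lt_irrefl _ this
  have hsum : ∑ a, T a = (Fintype.card F : ℂ) ^ k * colMult η χ (k + 1) := by
    simp only [T, colMult, Finset.mul_sum]
    rw [Finset.sum_comm]
    refine Finset.sum_congr rfl fun g _ => ?_
    by_cases hg : g ∈ colU F n k
    · simp only [if_pos hg, ← Finset.mul_sum, sum_addChar_dot hη, hcA]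
      by_cases hx : x g = 0
      · rw [if_pos hx, if_pos ((hmem g).1 ⟨hg, hx⟩)]
        ring
      · rw [if_neg hx, if_neg fun h => hx ((hmem g).2 h).2, mul_zero, mul_zero]
    · simp only [if_neg hg, Finset.sum_const_zero]
      rw [if_neg fun h => hg ((hmem g).2 h).1, mul_zero]
  -- the trivial character contributes nothing
  have hT0 : T 0 = 0 := by
    set V := rad (F := F) (lab2 (n := n) k)
    have hVU : V ≤ colU F n k := by
      intro v hv
      obtain ⟨v1, v2⟩ := mem_rad.1 hv
      refine mem_colU.2 fun i j hij => ?_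
      by_cases h : lab2 k i = lab2 k j
      · exact v2 i j h
      · rw [Matrix.one_apply_ne fun e => h (by rw [e])]
        refine v1 i j ?_
        rw [lt_iff_le_and_ne]
        refine ⟨?_, Ne.symm h⟩
        unfold lab2
        rcases hij with h' | h'
        · have : j.val ≤ i.val := h'
          split_ifs <;> first | exact le_rfl | exact Fin.zero_le _ | omega
        · simp [h']
    have hT0' : T 0 = ∑ u : colU F n k, χ u * η (-colSum (k + 1) (u : GL (Fin n) F)) := by
      simp only [T]
      rw [← sum_ite_subgroup (colU F n k) (fun g => χ g * η (-colSum (k + 1) g))]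
      refine Finset.sum_congr rfl fun g _ => ?_
      simp
    rw [hT0']
    have hinv : ∀ (u : colU F n k) (v : V), colSum (k + 1) ((u : GL (Fin n) F) * (v : GL (Fin n) F)) = colSum (k + 1) (u : GL (Fin n) F) := by
      intro u v
      obtain ⟨v1, v2⟩ := mem_rad.1 v.2
      refine Finset.sum_congr rfl fun p hp => ?_
      obtain ⟨hp1, hp2⟩ := (Finset.mem_filter.1 hp).2
      rw [Units.val_mul, Matrix.mul_apply, Finset.sum_eq_single p.2]
      · rw [v2 _ _ rfl, Matrix.one_apply_eq, mul_one]
      · intro l _ hl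
        by_cases hlk : l.val < k
        · rw [mem_colU.1 u.2 p.1 l (Or.inr hlk), Matrix.one_apply_ne (fun e => by rw [e] at hp1; omega), zero_mul]
        · rw [v2 l p.2 (by unfold lab2; rw [if_neg hlk, if_neg (by omega)]), Matrix.one_apply_ne hl, mul_zero]
      · simp
    have hshift : ∀ v : V, ∑ u : colU F n k, χ ((u : GL (Fin n) F) * (v : GL (Fin n) F)) * η (-colSum (k + 1) (u : GL (Fin n) F)) =
        ∑ u : colU F n k, χ u * η (-colSum (k + 1) (u : GL (Fin n) F)) := fun v =>
      Fintype.sum_equiv (Equiv.mulRight ⟨v, hVU v.2⟩) _ _ fun u => by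
        simp only [Equiv.coe_mulRight, Subgroup.coe_mul, hinv]
    have hzero : (Fintype.card V : ℂ) * ∑ u : colU F n k, χ u * η (-colSum (k + 1) (u : GL (Fin n) F)) = 0 := by
      calc (Fintype.card V : ℂ) * ∑ u : colU F n k, χ u * η (-colSum (k + 1) (u : GL (Fin n) F)) =
          ∑ v : V, ∑ u : colU F n k, χ ((u : GL (Fin n) F) * (v : GL (Fin n) F)) * η (-colSum (k + 1) (u : GL (Fin n) F)) := by
            simp only [hshift, Finset.sum_const, Finset.card_univ, nsmul_eq_mul]
        _ = 0 := by
          rw [Finset.sum_comm]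
          refine Finset.sum_eq_zero fun u _ => ?_
          rw [← Finset.sum_mul, sum_coset_eq_zero hχ V ?_, zero_mul]
          rw [← sum_ite_subgroup V]
          refine hcu (lab2 k) fun z => ?_
          fin_cases z
          · exact ⟨⟨0, by omega⟩, (hAlt _).2 hk1⟩
          · exact ⟨kk, by unfold lab2; rw [if_neg (lt_irrefl k)]; rfl⟩
    exact (mul_eq_zero.1 hzero).resolve_left (Nat.cast_ne_zero.2 Fintype.card_ne_zero)
  -- all the others agree
  have hconj : ∀ (h : GL A F) (a : A → F), T (Matrix.vecMul a (h : Matrix A A F)) = T a := by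
    intro h a
    set H := incl (lab2 k) (Pi.mulSingle (0 : Fin 2) h : ∀ b, GL {i : Fin n // lab2 k i = b} F) with hH
    have hH1 : ∀ (h : GL A F) (i j : Fin n), ¬ i.val < k ∨ ¬ j.val < k →
        ((incl (lab2 k) (Pi.mulSingle (0 : Fin 2) h : ∀ b, GL {i : Fin n // lab2 k i = b} F) : GL (Fin n) F) :
          Matrix (Fin n) (Fin n) F) i j = (1 : Matrix (Fin n) (Fin n) F) i j := by
      intro h i j hor
      rw [incl_apply]
      split_ifs with e
      · have hne : lab2 k i ≠ 0 := by
          intro e0
          rcases hor with h1 | h1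
          · exact h1 ((hAlt i).1 e0)
          · exact h1 ((hAlt j).1 (e.trans e0))
        rw [Pi.mulSingle_eq_of_ne hne]
        simp [Matrix.one_apply]
      · rw [Matrix.one_apply_ne fun e' => e (by rw [e'])]
    have hHi : H⁻¹ = incl (lab2 k) (Pi.mulSingle (0 : Fin 2) h⁻¹ : ∀ b, GL {i : Fin n // lab2 k i = b} F) := by
      rw [hH, ← map_inv, Pi.mulSingle_inv]
    have hH2 : ∀ i j : A, (H : Matrix (Fin n) (Fin n) F) i.1 j.1 = (h : Matrix A A F) i j := by
      rintro ⟨i, hi⟩ ⟨j, hj⟩
      rw [hH, incl_apply, dif_pos (hj.trans hi.symm)]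
      have key : ∀ (b : Fin 2) (hi' : lab2 k i = b) (hj' : lab2 k j = b) (eb : b = 0),
          ((Pi.mulSingle (0 : Fin 2) h : ∀ b, GL {i : Fin n // lab2 k i = b} F) b).val ⟨i, hi'⟩ ⟨j, hj'⟩ =
            (h : Matrix A A F) ⟨i, hi⟩ ⟨j, hj⟩ := by
        intro b hi' hj' eb
        subst eb
        rw [Pi.mulSingle_eq_same]
      exact key _ _ _ hi
    have hLL : ∀ (u : GL (Fin n) F) (i j : Fin n), u ∈ colU F n k → k ≤ j.val →
        ((H * u * H⁻¹ : GL (Fin n) F) : Matrix (Fin n) (Fin n) F) i j =
          ∑ l, (H : Matrix (Fin n) (Fin n) F) i l * (u : Matrix (Fin n) (Fin n) F) l j := by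
      intro u i j _ hj
      rw [Units.val_mul, Matrix.mul_apply, Finset.sum_eq_single j]
      · rw [hHi, hH1 h⁻¹ j j (Or.inl (by omega)), Matrix.one_apply_eq, mul_one, Units.val_mul, Matrix.mul_apply]
      · intro l _ hl
        rw [hHi, hH1 h⁻¹ l j (Or.inr (by omega)), Matrix.one_apply_ne hl, mul_zero]
      · simp
    have hlow : ∀ (u : GL (Fin n) F) (i j : Fin n), u ∈ colU F n k → k ≤ j.val → k ≤ i.val →
        ((H * u * H⁻¹ : GL (Fin n) F) : Matrix (Fin n) (Fin n) F) i j = (u : Matrix (Fin n) (Fin n) F) i j := by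
      intro u i j hu hj hi
      rw [hLL u i j hu hj, Finset.sum_eq_single i]
      · rw [hH, hH1 h i i (Or.inl (by omega)), Matrix.one_apply_eq, one_mul]
      · intro l _ hl
        rw [hH, hH1 h i l (Or.inl (by omega)), Matrix.one_apply_ne (Ne.symm hl), zero_mul]
      · simp
    have hnorm : ∀ (h : GL A F) (u : GL (Fin n) F), u ∈ colU F n k →
        incl (lab2 k) (Pi.mulSingle (0 : Fin 2) h : ∀ b, GL {i : Fin n // lab2 k i = b} F) * u *
          (incl (lab2 k) (Pi.mulSingle (0 : Fin 2) h : ∀ b, GL {i : Fin n // lab2 k i = b} F))⁻¹ ∈ colU F n k := by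
      intro h u hu
      set L := incl (lab2 k) (Pi.mulSingle (0 : Fin 2) h : ∀ b, GL {i : Fin n // lab2 k i = b} F) with hL
      have hLi : L⁻¹ = incl (lab2 k) (Pi.mulSingle (0 : Fin 2) h⁻¹ : ∀ b, GL {i : Fin n // lab2 k i = b} F) := by
        rw [hL, ← map_inv, Pi.mulSingle_inv]
      refine mem_colU.2 fun i j hij => ?_
      by_cases hj : j.val < k
      · have e : ((L * u * L⁻¹ : GL (Fin n) F) : Matrix (Fin n) (Fin n) F) i j =
            ((L * L⁻¹ : GL (Fin n) F) : Matrix (Fin n) (Fin n) F) i j := by
          rw [Units.val_mul, Units.val_mul, Matrix.mul_apply, Units.val_mul, Matrix.mul_apply]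
          refine Finset.sum_congr rfl fun l _ => ?_
          by_cases hl : l.val < k
          · rw [Matrix.mul_apply, Finset.sum_eq_single l]
            · rw [mem_colU.1 hu l l (Or.inl le_rfl), Matrix.one_apply_eq, mul_one]
            · intro m _ hm
              rw [mem_colU.1 hu m l (Or.inr hl), Matrix.one_apply_ne hm, mul_zero]
            · simp
          · rw [hLi, hH1 h⁻¹ l j (Or.inl hl), Matrix.one_apply_ne (fun e => hl (by rw [e]; exact hj)),
              mul_zero, mul_zero]
        rw [e, mul_inv_cancel, Units.val_one]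
      · push Not at hj
        rcases hij with hji | hjk
        · have hi : k ≤ i.val := hj.trans hji
          rw [Units.val_mul, Matrix.mul_apply, Finset.sum_eq_single j]
          · rw [hLi, hH1 h⁻¹ j j (Or.inl (by omega)), Matrix.one_apply_eq, mul_one, Units.val_mul,
              Matrix.mul_apply, Finset.sum_eq_single i]
            · rw [hL, hH1 h i i (Or.inl (by omega)), Matrix.one_apply_eq, one_mul, mem_colU.1 hu i j (Or.inl hji)]
            · intro l _ hl
              rw [hL, hH1 h i l (Or.inl (by omega)), Matrix.one_apply_ne (Ne.symm hl), zero_mul]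
            · simp
          · intro l _ hl
            rw [hLi, hH1 h⁻¹ l j (Or.inr (by omega)), Matrix.one_apply_ne hl, mul_zero]
          · simp
        · omega
    refine (Fintype.sum_equiv (MulAut.conj H).toEquiv _ _ fun g => ?_)
    show _ = if H * g * H⁻¹ ∈ colU F n k then _ else 0
    by_cases hg : g ∈ colU F n k
    · rw [if_pos hg, if_pos (hnorm h g hg)]
      congr 1
      · congr 1
        · exact (H12.IsCharacter.isClassFunction hχ g H).symm
        · congr 2
          refine Finset.sum_congr rfl fun p hp => ?_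
          obtain ⟨hp1, hp2⟩ := (Finset.mem_filter.1 hp).2
          exact (hlow g p.1 p.2 hg (by omega) (by omega)).symm
      · congr 2
        have e : ∀ i : A, x (H * g * H⁻¹) i = ∑ l : A, (h : Matrix A A F) i l * x g l := by
          intro i
          show ((H * g * H⁻¹ : GL (Fin n) F) : Matrix (Fin n) (Fin n) F) i.1 kk = _
          rw [hLL g i.1 kk hg le_rfl,
            ← Finset.sum_subset (Finset.subset_univ (univ.filter fun l => lab2 k l = 0))]
          · rw [Finset.sum_subtype (univ.filter fun l => lab2 k l = 0) (p := fun l => lab2 k l = 0) (by simp)]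
            exact Finset.sum_congr rfl fun l _ => by rw [hH2]
          · intro l _ hl
            simp only [Finset.mem_filter, Finset.mem_univ, true_and] at hl
            have hl' : ¬ l.val < k := fun hh => hl ((hAlt l).2 hh)
            rw [hH, hH1 h i.1 l (Or.inr hl'),
              Matrix.one_apply_ne (fun e' : i.1 = l => hl (e' ▸ i.2)), zero_mul]
        show _ = ∑ i, a i * x (H * g * H⁻¹) i
        simp only [e, Matrix.vecMul, dotProduct, Finset.sum_mul, Finset.mul_sum]
        rw [Finset.sum_comm]
        exact Finset.sum_congr rfl fun i _ => Finset.sum_congr rfl fun l _ => by ring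
    · rw [if_neg hg, if_neg]
      intro hg'
      apply hg
      have := hnorm h⁻¹ _ hg'
      rw [← hHi] at this
      simpa [mul_assoc] using this
  let i0 : A := ⟨⟨k - 1, by omega⟩, (hAlt _).2 (by show k - 1 < k; omega)⟩
  have htrans : ∀ a : A → F, a ≠ 0 → T a = T (Pi.single i0 1) := by
    intro a ha
    obtain ⟨j0, hj0⟩ := Function.ne_iff.1 ha
    let σ := Equiv.swap i0 j0
    let M : Matrix A A F := Matrix.of fun i l => if i = i0 then a l else if l = σ i then 1 else 0
    have hMu : IsUnit M := by
      refine Matrix.mulVec_injective_iff_isUnit.1 fun v w hvw => ?_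
      rw [← sub_eq_zero] at hvw ⊢
      rw [← Matrix.mulVec_sub] at hvw
      set z := v - w
      have h1 : ∀ l, l ≠ j0 → z l = 0 := by
        intro l hl
        have hi : σ l ≠ i0 := fun e => hl (by rw [← Equiv.swap_apply_self i0 j0 l]; show σ (σ l) = j0; rw [e]; exact Equiv.swap_apply_left _ _)
        have h := congrFun hvw (σ l)
        rw [Matrix.mulVec, dotProduct, Finset.sum_eq_single l] at h
        · simpa [M, hi, σ] using h
        · intro m _ hm
          simp [M, hi, σ, hm]
        · simp
      funext l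
      rcases eq_or_ne l j0 with rfl | hl
      · have h := congrFun hvw i0
        rw [Matrix.mulVec, dotProduct, Finset.sum_eq_single l] at h
        · simpa [M, show a l ≠ 0 from hj0] using h
        · intro m _ hm
          rw [h1 m hm, mul_zero]
        · simp
      · exact h1 l hl
    have e : Matrix.vecMul (Pi.single i0 1) (hMu.unit : Matrix A A F) = a := by
      funext l
      rw [IsUnit.unit_spec, Matrix.vecMul, dotProduct, Finset.sum_eq_single i0]
      · simp [M]
      · intro m _ hm
        simp [hm]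
      · simp
    rw [← e, hconj]
  have hlast : T (Pi.single i0 1) = colMult η χ k := by
    simp only [T, colMult]
    refine Finset.sum_congr rfl fun g _ => ?_
    split_ifs
    swap
    · rfl
    rw [mul_assoc, ← AddChar.map_add_eq_mul]
    congr 2
    rw [Finset.sum_eq_single i0 (fun m _ hm => by simp [hm]) (by simp), Pi.single_eq_same, one_mul, ← neg_add]
    congr 1
    show colSum (k + 1) g + (g : Matrix (Fin n) (Fin n) F) i0.1 kk = colSum k g
    have hins : (univ.filter fun p : Fin n × Fin n => p.2.val = p.1.val + 1 ∧ k ≤ p.2.val) =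
        insert (i0.1, kk) (univ.filter fun p : Fin n × Fin n => p.2.val = p.1.val + 1 ∧ k + 1 ≤ p.2.val) := by
      ext p
      simp only [Finset.mem_filter, Finset.mem_univ, true_and, Finset.mem_insert, Prod.ext_iff, Fin.ext_iff]
      simp only [hkk, i0]
      omega
    rw [colSum, colSum, hins, Finset.sum_insert, add_comm]
    simp only [Finset.mem_filter, Finset.mem_univ, true_and, hkk]
    omega
  rw [← hsum, ← Finset.add_sum_erase _ _ (Finset.mem_univ (0 : A → F)), hT0, zero_add,
    Finset.sum_congr rfl fun a ha => (htrans a (Finset.ne_of_mem_erase ha)).trans hlast, Finset.sum_const,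
    Finset.card_erase_of_mem (Finset.mem_univ _), Finset.card_univ, Fintype.card_fun, hcA, nsmul_eq_mul,
    Nat.cast_sub (Nat.one_le_pow _ _ Fintype.card_pos)]
  simp

/-- The degree of a cuspidal character. -/
theorem cusp_degree {η : AddChar F ℂ} (hη : η ≠ 1) {χ : GL (Fin n) F → ℂ}
    (hχ : IsCharacter (GL (Fin n) F) χ) (hcu : Cusp χ) (hn : 0 < n) :
    χ 1 = gen η χ * ∏ i ∈ Finset.Ico 1 n, ((Fintype.card F : ℂ) ^ i - 1) := by
  classical
  let D : ℕ → ℂ := fun k => (Nat.card (colU F n k) : ℂ)⁻¹ * colMult η χ k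
  have hstep : ∀ k, 1 ≤ k → k < n → D (k + 1) = ((Fintype.card F : ℂ) ^ k - 1) * D k := by
    intro k h1 h2
    simp only [D]
    have h := colMult_step hη hχ hcu h1 h2
    have hq : (Fintype.card F : ℂ) ^ k ≠ 0 := pow_ne_zero _ (Nat.cast_ne_zero.2 Fintype.card_ne_zero)
    have hc : (Nat.card (colU F n (k + 1)) : ℂ) ≠ 0 := Nat.cast_ne_zero.2 Nat.card_pos.ne'
    rw [card_colU_succ h2, mul_inv]
    field_simp
    linear_combination h
  have hprod : ∀ m, 1 ≤ m → m ≤ n → D m = D 1 * ∏ i ∈ Finset.Ico 1 m, ((Fintype.card F : ℂ) ^ i - 1) := by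
    intro m hm1 hmn
    induction m, hm1 using Nat.le_induction with
    | base => simp
    | succ m hm ih => rw [hstep m hm hmn, ih (by omega), Finset.prod_Ico_succ_top hm]; ring
  have hD1 : D 1 = gen η χ := by
    have hU : colU F n 1 = UT (Fin n) F := by
      ext g
      rw [mem_colU, mem_UT]
      constructor
      · intro h
        exact ⟨fun i j hij => by rw [h i j (Or.inl hij.le), Matrix.one_apply_ne hij.ne'],
          fun i => by rw [h i i (Or.inl le_rfl), Matrix.one_apply_eq]⟩
      · rintro ⟨h1, h2⟩ i j hij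
        rcases eq_or_ne i j with rfl | hne
        · rw [h2, Matrix.one_apply_eq]
        · rw [Matrix.one_apply_ne hne]
          refine h1 i j ?_
          rcases hij with h | h
          · exact lt_of_le_of_ne h (Ne.symm hne)
          · have hne' : i.val ≠ j.val := fun e => hne (Fin.ext e)
            exact Fin.lt_def.2 (by omega)
    have hs : ∀ g : GL (Fin n) F, colSum 1 g = supSum g := by
      intro g
      rw [colSum, supSum]
      refine Finset.sum_congr ?_ fun _ _ => rfl
      ext p
      simp only [Finset.mem_filter, Finset.mem_univ, true_and]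
      constructor
      · rintro ⟨h, -⟩
        exact ⟨Fin.lt_def.2 (by omega), fun c hc hc' => by
          have := Fin.lt_def.1 hc; have := Fin.lt_def.1 hc'; omega⟩
      · rintro ⟨h, h'⟩
        have hlt := Fin.lt_def.1 h
        refine ⟨?_, by omega⟩
        by_contra hne
        exact h' (c := ⟨p.1.val + 1, by omega⟩) (Fin.lt_def.2 (by simp)) (Fin.lt_def.2 (by simp; omega))
    simp only [D, gen, colMult, hU, hs]
  have hDn : D n = χ 1 := by
    have hU : colU F n n = ⊥ := by
      ext g
      rw [mem_colU, Subgroup.mem_bot]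
      exact ⟨fun h => Units.ext (Matrix.ext fun i j => h i j (Or.inr j.2)), fun h i j _ => by rw [h]; rfl⟩
    simp only [D, colMult, hU, Subgroup.mem_bot]
    rw [Finset.sum_ite_eq' univ (1 : GL (Fin n) F), if_pos (Finset.mem_univ _)]
    have hs : colSum n (1 : GL (Fin n) F) = 0 := Finset.sum_eq_zero fun p hp => by
      have := (Finset.mem_filter.1 hp).2.2
      omega
    simp [hs]
  rw [← hDn, hprod n hn le_rfl, hD1]

end Degree

end H17.GLC
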